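import Groth.Prelude.Def_ChowK
import Groth.Agent.CycLib.StalkSES
import Groth.Agent.KFlatLib.Scheme.Exact
import Groth.Agent.KFlatLib.Scheme.Pullback
import Groth.Agent.QCoh.Support

/-! Stalks of maps of sheaves of modules as linear maps. -/

set_option autoImplicit false
set_option backward.isDefEq.respectTransparency false
set_option backward.isDefEq.respectTransparency.types false

universe u

open CategoryTheory CategoryTheory.Limits AlgebraicGeometry TopologicalSpace Opposite

namespace Groth.Agent.CycK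

variable {X : Scheme.{u}} {M N L : X.Modules}

/-- The stalk map. -/
noncomputable def sl (φ : M ⟶ N) (x : X) :
    M.presheaf.stalk x →ₗ[X.presheaf.stalk x] N.presheaf.stalk x :=
  ((DerSch.stalkFunctor X x).map φ).hom

theorem sl_comp (φ : M ⟶ N) (ψ : N ⟶ L) (x : X) : sl (φ ≫ ψ) x = sl ψ x ∘ₗ sl φ x := by
  unfold sl; rw [Functor.map_comp]; rfl

theorem sl_comp_apply (φ : M ⟶ N) (ψ : N ⟶ L) (x : X) (m : M.presheaf.stalk x) :
    sl (φ ≫ ψ) x m = sl ψ x (sl φ x m) := by rw [sl_comp]; rfl

theorem sl_id (x : X) : sl (𝟙 M) x = LinearMap.id := by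
  refine (congrArg ModuleCat.Hom.hom ((DerSch.stalkFunctor X x).map_id M)).trans ?_; rfl

theorem sl_zero (x : X) : sl (0 : M ⟶ N) x = 0 := by
  unfold sl; rw [Functor.map_zero]; rfl

theorem sl_germ (φ : M ⟶ N) {x : X} (U : X.Opens) (hx : x ∈ U) (s : Γ(M, U)) :
    sl φ x (M.presheaf.germ U x hx s) = N.presheaf.germ U x hx (φ.app U s) :=
  DerSch.stalkFunctor_map_germ x φ U hx s

theorem sl_spec (φ : M ⟶ N) {x y : X} (h : x ⤳ y) (m : M.presheaf.stalk y) :
    N.presheaf.stalkSpecializes h (sl φ y m) = sl φ x (M.presheaf.stalkSpecializes h m) := by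
  obtain ⟨U, hy, s, rfl⟩ := M.presheaf.exists_germ_eq (x := y) m
  rw [sl_germ, TopCat.Presheaf.germ_stalkSpecializes_apply, TopCat.Presheaf.germ_stalkSpecializes_apply, sl_germ]

theorem sl_injective (φ : M ⟶ N) [Mono φ] (x : X) : Function.Injective (sl φ x) :=
  (ModuleCat.mono_iff_injective _).1 (inferInstanceAs (Mono ((DerSch.stalkFunctor X x).map φ)))

theorem sl_surjective (φ : M ⟶ N) [Epi φ] (x : X) : Function.Surjective (sl φ x) :=
  (ModuleCat.epi_iff_surjective _).1 (inferInstanceAs (Epi ((DerSch.stalkFunctor X x).map φ)))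

theorem sl_exact {S : ShortComplex X.Modules} (hS : S.Exact) (x : X) :
    Function.Exact (sl S.f x) (sl S.g x) := by
  have := (KFlatLib.exact_iff_stalk S).1 hS x
  rw [ShortComplex.ShortExact.moduleCat_exact_iff_function_exact] at this
  exact this

theorem mono_of_sl (φ : M ⟶ N) (h : ∀ x, Function.Injective (sl φ x)) : Mono φ := by
  refine Preadditive.mono_of_kernel_zero ?_
  have hK : ∀ x, Subsingleton ((kernel φ).presheaf.stalk x) := fun x =>
    ⟨fun a b => (sl_injective (kernel.ι φ) x) (h x (by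
      rw [← sl_comp_apply, ← sl_comp_apply, kernel.condition, sl_zero]; rfl))⟩
  refine Scheme.Modules.hom_ext _ _ fun U => ?_
  ext s
  refine TopCat.Presheaf.section_ext (show TopCat.Sheaf AddCommGrpCat.{u} X.toPresheafedSpace.carrier
    from ⟨M.presheaf, M.isSheaf⟩) U _ _ fun x hx => ?_
  show M.presheaf.germ U x hx _ = M.presheaf.germ U x hx _
  erw [← sl_germ, ← sl_germ]
  rw [sl_zero]
  haveI := hK x
  rw [Subsingleton.elim ((kernel φ).presheaf.germ U x hx s) 0, map_zero, map_zero]

theorem length_stalk {S : ShortComplex X.Modules} (hS : S.ShortExact) (x : X) :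
    Module.length (X.presheaf.stalk x) (S.X₂.presheaf.stalk x) =
      Module.length (X.presheaf.stalk x) (S.X₁.presheaf.stalk x) +
        Module.length (X.presheaf.stalk x) (S.X₃.presheaf.stalk x) := by
  haveI := hS.mono_f
  haveI := hS.epi_g
  exact Module.length_eq_add_of_exact _ _ (sl_injective S.f x) (sl_surjective S.g x) (sl_exact hS.exact x)

theorem subsingleton_stalk_of_isZero (h : IsZero M) (x : X) : Subsingleton (M.presheaf.stalk x) :=
  ModuleCat.subsingleton_of_isZero (Functor.map_isZero (DerSch.stalkFunctor X x) h)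

theorem nontrivial_of_injective (φ : M ⟶ N) [Mono φ] {x : X} (h : Nontrivial (M.presheaf.stalk x)) :
    Nontrivial (N.presheaf.stalk x) :=
  (sl_injective φ x).nontrivial

theorem nontrivial_of_surjective (φ : M ⟶ N) [Epi φ] {x : X} (h : Nontrivial (N.presheaf.stalk x)) :
    Nontrivial (M.presheaf.stalk x) :=
  (sl_surjective φ x).nontrivial

theorem subsingleton_kernel (φ : M ⟶ N) {x : X} (h : Function.Injective (sl φ x)) :
    Subsingleton ((kernel φ).presheaf.stalk x) :=
  ⟨fun a b => (sl_injective (kernel.ι φ) x) (h (by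
    rw [← sl_comp_apply, ← sl_comp_apply, kernel.condition, sl_zero]; rfl))⟩

theorem subsingleton_cokernel (φ : M ⟶ N) {x : X} (h : Function.Surjective (sl φ x)) :
    Subsingleton ((cokernel φ).presheaf.stalk x) := by
  refine subsingleton_of_forall_eq 0 fun c => ?_
  obtain ⟨n, rfl⟩ := sl_surjective (cokernel.π φ) x c
  obtain ⟨m, rfl⟩ := h n
  rw [← sl_comp_apply, cokernel.condition, sl_zero]; rfl

/-- The stalk of a cokernel. -/
noncomputable def cokerEquiv (φ : M ⟶ N) (x : X) :
    (N.presheaf.stalk x ⧸ LinearMap.range (sl φ x)) ≃ₗ[X.presheaf.stalk x]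
      (cokernel φ).presheaf.stalk x :=
  Submodule.quotEquivOfEq _ _ (sl_exact (S := ShortComplex.mk φ (cokernel.π φ) (cokernel.condition φ))
      (ShortComplex.exact_of_g_is_cokernel _ (cokernelIsCokernel φ)) x).linearMap_ker_eq.symm
    ≪≫ₗ (sl (cokernel.π φ) x).quotKerEquivOfSurjective (sl_surjective (cokernel.π φ) x)

end Groth.Agent.CycK
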