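import Groth.Agent.CycK.Degree

/-! Intersection numbers of modules with small support; signs of inverse lists. -/

noncomputable section

set_option linter.style.haveILetI false
set_option linter.unusedSectionVars false
set_option backward.isDefEq.respectTransparency false
set_option backward.isDefEq.respectTransparency.types false

universe u

open CategoryTheory CategoryTheory.Limits AlgebraicGeometry TopologicalSpace
open Groth.Agent.H23.PicMul

namespace Groth.Agent.CycK

variable (k : Type u) [Field k] {X : Scheme.{u}} [X.Over (Spec (CommRingCat.of k))]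
  [IsProper (X ↘ Spec (CommRingCat.of k))]

/-- Intersection numbers of a module with small support are symbols. -/
theorem intNum_eq_supp {d r : ℕ} (M : Fin r → X.Modules) (hM : ∀ i, PicF.IsInvertible (M i)) {F : X.Modules}
    (hF : Coh.IsCoh F) (hd : topologicalKrullDim ↥(CohB1.support F) ≤ (d : WithBot ℕ∞)) :
    FGA.intNum k X d M F = (-1) ^ r * IntSym.sym k (List.ofFn M) F := by
  haveI := CurveCohLib.isNoetherian_of_proper (k := k) (X := X)
  haveI : X.IsSeparated := AmpleVan.isSeparated_of_proper (A := k)
  have key : (FGA.intNum k X d M F : ℚ) = (-1) ^ r * IntNum.alt (Snapper.χs k M F) := by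
    unfold FGA.intNum IntNum.alt IntNum.sgn Snapper.χs
    push_cast
    rw [Finset.mul_sum, ← (IntSym.cubeEquiv r).sum_comp]
    refine Finset.sum_congr rfl fun x _ => ?_
    have hterm : FGA.eulerCharLE k X
        (CohB1.tensorMod (FGA.tensorList (((IntSym.cubeEquiv r x).sort (· ≤ ·)).map M)) F) d =
        Curv2.euler k X (Curv2.tensorPows F r M (fun i => (x i : ℕ))) := by
      obtain ⟨e⟩ := IntSym.sort_term M F (IntSym.cubeEquiv r x)
      have hfun : (fun i => if i ∈ IntSym.cubeEquiv r x then 1 else 0 : Fin r → ℕ) = fun i => (x i : ℕ) := by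
        funext i
        rcases Fin.exists_fin_two.1 ⟨x i, rfl⟩ with h | h <;> simp [IntSym.cubeEquiv, h]
      rw [hfun] at e
      have hc := Snapper.isCoh_tensorPows M hM (fun i => (x i : ℕ)) hF
      have hs := Snapper.support_tensorPows_subset M hM (fun i => (x i : ℕ)) hF
      rw [← CurveCohLib.euler_congr (k := k) e, CurveCohLib.euler_eq_sum (k := k) (N := d + 1) fun i hi =>
        QCoh.subsingleton_HH_of_iso e.symm i (Snapper.subsingleton_HH_of_dim_lt (d + 1)
          ⟨_, QCoh.isClosed_support_of_isFT hF.1 hF.2⟩
          (lt_of_le_of_lt hd (by exact_mod_cast Nat.lt_succ_self d)) _ hc.1 hs i hi)]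
      rfl
    rw [hterm, ← mul_assoc]
    congr 1
    rw [show (-1 : ℚ) ^ r = ∏ _i : Fin r, (-1 : ℚ) by simp, ← Finset.prod_mul_distrib,
      show (IntSym.cubeEquiv r x).card = (Finset.univ.filter fun i => x i = 1).card from rfl, ← Finset.prod_const,
      Finset.prod_filter]
    refine Finset.prod_congr rfl fun i _ => ?_
    rcases Fin.exists_fin_two.1 ⟨x i, rfl⟩ with h | h <;> simp [h]
  rw [IntSym.alt_eq_sym k M hM F] at key
  exact_mod_cast key

end Groth.Agent.CycK

namespace Groth.Agent.CycK

variable (k : Type u) [Field k] {X : Scheme.{u}} [X.Over (Spec (CommRingCat.of k))]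
  [IsProper (X ↘ Spec (CommRingCat.of k))]

/-- Inverses change the sign in each slot. -/
theorem sym_inverses : ∀ {m : ℕ} (M L : Fin m → X.Modules), (∀ i, PicF.IsInvertible (M i)) →
    (∀ i, PicF.IsInvertible (L i)) → (∀ i, Nonempty (CohB1.tensorMod (M i) (L i) ≅ Coh.structureModule X)) →
    ∀ (pre : List X.Modules), IntSym.Inv pre → ∀ F : X.Modules, Coh.IsCoh F →
      topologicalKrullDim ↥(CohB1.support F) ≤ ((pre.length + m : ℕ) : WithBot ℕ∞) →
      IntSym.sym k (pre ++ List.ofFn M) F = (-1) ^ m * IntSym.sym k (pre ++ List.ofFn L) F := by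
  intro m
  induction m with
  | zero => intro M L _ _ _ pre _ F _ _; simp
  | succ m ih =>
    intro M L hM hL hML pre hpre F hF hd
    have hall : ∀ (N : Fin (m + 1) → X.Modules), (∀ i, PicF.IsInvertible (N i)) →
        IntSym.Inv (pre ++ List.ofFn N) := fun N hN A hA => by
      rcases List.mem_append.1 hA with h | h
      · exact hpre A h
      · obtain ⟨i, rfl⟩ := List.mem_ofFn.1 h
        exact hN i
    have hperm : ∀ (A : X.Modules) (t : List X.Modules), List.Perm (pre ++ A :: t) (A :: (pre ++ t)) :=
      fun A t => List.perm_middle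
    have hInv : IntSym.Inv (pre ++ List.ofFn fun i : Fin m => M i.succ) := fun A hA => by
      rcases List.mem_append.1 hA with h | h
      · exact hpre A h
      · obtain ⟨i, rfl⟩ := List.mem_ofFn.1 h
        exact hM i.succ
    obtain ⟨e⟩ := hML 0
    rw [IntSym.sym_perm k (show List.Perm (pre ++ List.ofFn M) (M 0 :: (pre ++ List.ofFn fun i : Fin m => M i.succ)) by
        rw [List.ofFn_succ]; exact hperm _ _) (hall M hM),
      IntSym.sym_inverse_head k (hM 0) (hL 0) e hInv hF (by
        rw [List.length_append, List.length_ofFn, show pre.length + m + 1 = pre.length + (m + 1) by omega]; exact hd)]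
    have h := ih (fun i => M i.succ) (fun i => L i.succ) (fun i => hM _) (fun i => hL _) (fun i => hML _)
      (L 0 :: pre) (List.forall_mem_cons.2 ⟨hL 0, hpre⟩) F hF (by
        rw [List.length_cons, show pre.length + 1 + m = pre.length + (m + 1) by omega]; exact hd)
    rw [List.cons_append, List.cons_append] at h
    rw [h, IntSym.sym_perm k (show List.Perm (pre ++ List.ofFn L) (L 0 :: (pre ++ List.ofFn fun i : Fin m => L i.succ)) by
        rw [List.ofFn_succ]; exact hperm _ _) (hall L hL), pow_succ]
    ring

end Groth.Agent.CycK
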