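import Groth.Agent.CycK.Span

/-! The class of a coherent module is the class of its cycle. -/

set_option autoImplicit false
set_option linter.style.haveILetI false
set_option linter.unusedSectionVars false
set_option backward.isDefEq.respectTransparency false
set_option backward.isDefEq.respectTransparency.types false

universe u

open CategoryTheory CategoryTheory.Limits AlgebraicGeometry TopologicalSpace Opposite

namespace Groth.Agent.CycK

variable {X : Scheme.{u}} [IsLocallyNoetherian X] {δ : X → ℤ} {a b k : ℤ}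

/-- Locally finite support. -/
def LF (α : X → ℤ) : Prop := ∀ x : X, ∃ U : Set X, IsOpen U ∧ x ∈ U ∧ {ζ | ζ ∈ U ∧ α ζ ≠ 0}.Finite

theorem lf_cycle (α : AlgebraicCycle X ℤ) : LF ⇑α := fun x => by
  obtain ⟨t, ht, hfin⟩ := α.supportLocallyFiniteWithinDomain' x trivial
  obtain ⟨U, hUt, hU, hxU⟩ := mem_nhds_iff.1 ht
  exact ⟨U, hU, hxU, hfin.subset fun ζ hζ => ⟨hUt hζ.1, hζ.2⟩⟩

theorem lf_sheafFun (hd : Cyc.IsDimFun X δ) {F : X.Modules} (hF : Cyc.CohLe δ k F) :
    LF (Cyc.sheafFun δ k F) := fun x => by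
  obtain ⟨U, hU, hxU, -⟩ := exists_isAffineOpen_mem_and_subset (x := x) (U := (⊤ : X.Opens)) trivial
  refine ⟨U, U.2, hxU, (H23.C1Comm.finite_maximal_inter (CycLib.isClosed_nontrivial F hF.1) hU.isCompact).subset ?_⟩
  rintro ζ ⟨hζU, hζ⟩
  simp only [Cyc.sheafFun] at hζ
  split_ifs at hζ with hk
  · refine ⟨not_subsingleton_iff_nontrivial.1 fun hs => hζ ?_,
      fun w hw hwζ => CycLib.eq_of_delta_le hd hwζ ((hF.2 w hw).trans hk.ge), hζU⟩
    haveI := hs
    rw [Module.length_eq_zero_iff.2 ‹_›]; rfl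
  · exact absurd rfl hζ

theorem lfin_pos {α : X → ℤ} (hl : LF α) :
    LFin fun i : (Σ ζ : {ζ : X // 0 < α ζ}, Fin (α ζ.1).toNat) => Cyc.closureStructureSheaf i.1.1 := by
  refine lfin_of_closure (fun i => i.1.1) (fun x => ?_) fun i y => nontrivial_closureStructureSheaf
  obtain ⟨U, hU, hx, hfin⟩ := hl x
  refine ⟨U, hU, hx, ?_⟩
  have hf : {ζ : {ζ : X // 0 < α ζ} | ζ.1 ∈ U}.Finite :=
    (hfin.preimage Subtype.val_injective.injOn).subset fun ζ hζ => ⟨hζ, ζ.2.ne'⟩
  refine (hf.biUnion fun ζ _ => Set.finite_range (Sigma.mk ζ)).subset ?_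
  rintro i ⟨z, hz, hzU⟩
  exact Set.mem_biUnion (x := i.1) ((specializes_iff_mem_closure.2 hz).mem_open hU hzU) ⟨i.2, rfl⟩

theorem cohLe_pos (hd : Cyc.IsDimFun X δ) {α : X → ℤ} (hl : LF α) (hk : ∀ ζ, 0 < α ζ → δ ζ ≤ k) :
    Cyc.CohLe δ k (Cyc.cycleSheafPos α) :=
  cohLe_sigma (lfin_pos hl) fun i => cohLe_closureStructureSheaf hd (hk _ i.1.2)

theorem sheafFun_pos (hd : Cyc.IsDimFun X δ) {α : X → ℤ} (hl : LF α) (hk : ∀ ζ, α ζ ≠ 0 → δ ζ = k) :
    Cyc.sheafFun δ k (Cyc.cycleSheafPos α) = fun x => max (α x) 0 := by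
  classical
  funext x
  by_cases hx : δ x = k
  swap
  · have hα : α x = 0 := by_contra fun h => hx (hk x h)
    simp [Cyc.sheafFun, hx, hα]
  simp only [Cyc.sheafFun, if_pos hx]
  set F := fun i : (Σ ζ : {ζ : X // 0 < α ζ}, Fin (α ζ.1).toNat) => Cyc.closureStructureSheaf i.1.1
  have h0 : ∀ i, i.1.1 ≠ x → Subsingleton ((F i).presheaf.stalk x) := fun i hi =>
    subsingleton_of_delta hd (Ne.symm hi) ((hk _ i.1.2.ne').trans hx.symm).le
  rcases le_or_gt (α x) 0 with hα | hα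
  · have : ∀ i : (Σ ζ : {ζ : X // 0 < α ζ}, Fin (α ζ.1).toNat), i ∉ (∅ : Finset _) →
        Subsingleton ((F i).presheaf.stalk x) := fun i _ => h0 i fun e => absurd (e ▸ i.1.2) (not_lt.2 hα)
    rw [show Module.length (X.presheaf.stalk x) ((Cyc.cycleSheafPos α).presheaf.stalk x) = _ from length_sigma this,
      max_eq_right hα, Finset.sum_empty]
    rfl
  · let S : Finset (Σ ζ : {ζ : X // 0 < α ζ}, Fin (α ζ.1).toNat) :=
      (Finset.univ : Finset (Fin (α x).toNat)).map ⟨fun j => ⟨⟨x, hα⟩, j⟩, fun a b h => by simpa using h⟩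
    have : ∀ i ∉ S, Subsingleton ((F i).presheaf.stalk x) := fun i hi => h0 i fun e => hi (by
      obtain ⟨⟨ζ, hζ⟩, j⟩ := i
      obtain rfl : ζ = x := e
      exact Finset.mem_map.2 ⟨j, Finset.mem_univ _, rfl⟩)
    rw [show Module.length (X.presheaf.stalk x) ((Cyc.cycleSheafPos α).presheaf.stalk x) = _ from length_sigma this,
      Finset.sum_map, max_eq_left hα.le]
    simp only [Function.Embedding.coeFn_mk, length_self, Finset.sum_const, Finset.card_univ, Fintype.card_fin,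
      nsmul_one]
    simp [Int.toNat_of_nonneg hα.le]

theorem linearEquiv_of_length_one {R M N : Type u} [CommRing R] [IsLocalRing R] [AddCommGroup M] [Module R M]
    [AddCommGroup N] [Module R N] (hM : Module.length R M = 1) (hN : Module.length R N = 1) :
    Nonempty (M ≃ₗ[R] N) := by
  obtain ⟨I, hI, ⟨e⟩⟩ := isSimpleModule_iff_quot_maximal.1 (Module.length_eq_one_iff.1 hM)
  obtain ⟨J, hJ, ⟨e'⟩⟩ := isSimpleModule_iff_quot_maximal.1 (Module.length_eq_one_iff.1 hN)
  exact ⟨e ≪≫ₗ Submodule.quotEquivOfEq _ _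
    ((IsLocalRing.eq_maximalIdeal hI).trans (IsLocalRing.eq_maximalIdeal hJ).symm) ≪≫ₗ e'.symm⟩

/-- **The class of a coherent module is the class of its cycle.** -/
theorem class_eq (hd : Cyc.IsDimFun X δ) {F : X.Modules} (hF : Cyc.CohLe δ k F) (hka : k ≤ a) (hkb : k - 1 ≤ b) :
    Cyc.toK0CohQuot δ a b F = Cyc.toK0CohQuot δ a b (Cyc.cycleSheafPos (Cyc.sheafFun δ k F)) := by
  classical
  set α := Cyc.sheafFun δ k F with hα
  let T := {ζ : X // 0 < α ζ}
  let n : T → ℕ := fun t => (α t.1).toNat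
  have hT : ∀ t : T, δ t.1 = k ∧ Module.length (X.presheaf.stalk t.1) (F.presheaf.stalk t.1) = n t := by
    rintro ⟨ζ, hζ⟩
    have hζ' : (0 : ℤ) < Cyc.sheafFun δ k F ζ := hζ
    simp only [Cyc.sheafFun] at hζ'
    split_ifs at hζ' with hk
    · refine ⟨hk, ?_⟩
      show _ = (((Cyc.sheafFun δ k F ζ).toNat : ℕ) : ℕ∞)
      simp only [Cyc.sheafFun, if_pos hk, Int.toNat_natCast]
      exact (ENat.natCast_toNat (length_lt_top hd hF hk.ge).ne).symm
    · exact absurd hζ' (lt_irrefl 0)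
  choose G f π hf hG hs hz hlen hπ using fun t : T => exists_filtration hd hF (hT t).1 (hT t).2
  have hlfT : ∀ x : X, ∃ U : Set X, IsOpen U ∧ x ∈ U ∧ {t : T | (closure {t.1} ∩ U).Nonempty}.Finite := fun x => by
    obtain ⟨U, hU, hx, hfin⟩ := lf_sheafFun hd hF x
    exact ⟨U, hU, hx, (hfin.preimage Subtype.val_injective.injOn).subset fun t ⟨z, hz, hzU⟩ =>
      ⟨(specializes_iff_mem_closure.2 hz).mem_open hU hzU, t.2.ne'⟩⟩
  let A : (T × ℕ) → X.Modules := fun p => G p.1 p.2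
  let B : (T × ℕ) → X.Modules := fun p => G p.1 (p.2 + 1)
  let G₀ : T → X.Modules := fun t => G t 0
  have hlA : LFin A := fun x => by
    obtain ⟨U, hU, hx, hfin⟩ := hlfT x
    refine ⟨⟨U, hU⟩, hx, (hfin.biUnion fun t _ => (Set.finite_le_nat (n t)).image (Prod.mk t)).subset ?_⟩
    rintro ⟨t, j⟩ ⟨y, hy, hn⟩
    refine Set.mem_biUnion (x := t) ⟨y, specializes_iff_mem_closure.1 (hs t j y hn), hy⟩ ⟨j, ?_, rfl⟩
    by_contra hc
    exact not_subsingleton_iff_nontrivial.2 hn (subsingleton_stalk_of_isZero (hz t j (not_le.1 hc)) y)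
  have hlB : LFin B := hlA.comp (e := fun p : T × ℕ => (p.1, p.2 + 1)) fun p q h => by
    simp only [Prod.mk.injEq, add_left_inj] at h
    exact Prod.ext h.1 h.2
  have hlG : LFin G₀ := hlA.comp (e := fun t : T => (t, 0)) fun p q h => congrArg Prod.fst h
  have hA : ∀ p, Cyc.CohLe δ a (A p) := fun p => cohLe_of_le hka (hG _ _)
  have hB : ∀ p, Cyc.CohLe δ a (B p) := fun p => cohLe_of_le hka (hG _ _)
  have hG₀ : ∀ t, Cyc.CohLe δ a (G₀ t) := fun t => cohLe_of_le hka (hG _ _)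
  let u : ∐ B ⟶ ∐ A := Limits.Sigma.desc fun p => Limits.Sigma.ι A (p.1, p.2 + 1)
  let v : ∐ A ⟶ ∐ G₀ := Limits.Sigma.desc fun p => match p with
    | (t, 0) => Limits.Sigma.ι G₀ t
    | (_, _ + 1) => 0
  let r : ∐ A ⟶ ∐ B := Limits.Sigma.desc fun p => match p with
    | (_, 0) => 0
    | (t, j + 1) => Limits.Sigma.ι B (t, j)
  let s : ∐ G₀ ⟶ ∐ A := Limits.Sigma.desc fun t => Limits.Sigma.ι A (t, 0)
  have huv : u ≫ v = 0 := Limits.Sigma.hom_ext _ _ fun p => by simp [u, v]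
  have hsplit : (ShortComplex.mk u v huv).ShortExact := ShortComplex.Splitting.shortExact
    ⟨r, s, Limits.Sigma.hom_ext _ _ fun p => by
        show Limits.Sigma.ι B p ≫ u ≫ r = Limits.Sigma.ι B p ≫ 𝟙 _
        simp [u, r],
      Limits.Sigma.hom_ext _ _ fun t => by
        show Limits.Sigma.ι G₀ t ≫ s ≫ v = Limits.Sigma.ι G₀ t ≫ 𝟙 _
        simp [s, v],
      Limits.Sigma.hom_ext _ _ fun ⟨t, j⟩ => by
        show Limits.Sigma.ι A (t, j) ≫ (r ≫ u + v ≫ s) = Limits.Sigma.ι A (t, j) ≫ 𝟙 _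
        rcases j with _ | j <;> simp [u, v, r, s]⟩
  let C : (T × ℕ) → X.Modules := fun p => cokernel (f p.1 p.2)
  let SS : (T × ℕ) → ShortComplex X.Modules := fun p => ShortComplex.mk (f p.1 p.2) (cokernel.π _) (cokernel.condition _)
  have hSS : ∀ p, (SS p).ShortExact := fun p => by
    haveI := hf p.1 p.2
    exact .mk' (ShortComplex.exact_of_g_is_cokernel _ (cokernelIsCokernel _)) ‹_› inferInstance
  have hC : ∀ p, Cyc.CohLe δ k (C p) := fun p => cohLe_cokernel _ (hG _ _).1 (hG _ _)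
  have hlC : LFin C := hlA.of_imp fun p y => nontrivial_of_surjective (cokernel.π (f p.1 p.2))
  have hC' := fun p => cohLe_of_le hka (hC p)
  have e₁ : Cyc.toK0CohQuot δ a b (∐ C) = Cyc.toK0CohQuot δ a b (∐ G₀) := by
    have h1 : Cyc.toK0CohQuot δ a b (∐ A) = Cyc.toK0CohQuot δ a b (∐ B) + Cyc.toK0CohQuot δ a b (∐ G₀) :=
      ses hsplit (cohLe_sigma hlB hB) (cohLe_sigma hlA hA) (cohLe_sigma hlG hG₀)
    have h2 : Cyc.toK0CohQuot δ a b (∐ A) = Cyc.toK0CohQuot δ a b (∐ B) + Cyc.toK0CohQuot δ a b (∐ C) :=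
      ses (shortExact_sigma SS hSS hlB) (cohLe_sigma hlB hB) (cohLe_sigma hlA hA) (cohLe_sigma hlC hC')
    exact add_left_cancel (h2.symm.trans h1)
  have hpt : ∀ (t : T) (y : X), k ≤ δ y → y ≠ t.1 → ∀ j, Subsingleton ((G t j).presheaf.stalk y) :=
    fun t y hy hne j => not_nontrivial_iff_subsingleton.1 fun hn =>
      hne (CycLib.eq_of_delta_le hd (hs t j y hn) ((hT t).1.le.trans hy)).symm
  have e₂ : Cyc.toK0CohQuot δ a b (∐ G₀) = Cyc.toK0CohQuot δ a b F := by
    refine crit (Limits.Sigma.desc fun t => π t) (cohLe_sigma hlG hG₀) (cohLe_of_le hka hF) fun y hy => ?_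
    have hy' : k ≤ δ y := by omega
    by_cases hyT : 0 < α y
    · have h0 : ∀ t ∉ ({⟨y, hyT⟩} : Finset T), Subsingleton ((G₀ t).presheaf.stalk y) := fun t ht =>
        hpt t y hy' (fun e => ht (Finset.mem_singleton.2 (Subtype.ext e.symm))) 0
      have hm : ∀ m, m = sl (Limits.Sigma.ι G₀ ⟨y, hyT⟩) y (sl (proj G₀ ⟨y, hyT⟩) y m) := fun m =>
        ((Finset.sum_singleton _ _).symm.trans (sigma_total h0 m)).symm
      refine ⟨(injective_iff_map_eq_zero _).2 fun m hm0 => ?_, fun z => ?_⟩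
      · rw [hm m, ← sl_comp_apply, Limits.Sigma.ι_desc] at hm0
        rw [hm m, (hπ ⟨y, hyT⟩).1 (hm0.trans (map_zero _).symm), map_zero]
      · obtain ⟨w, rfl⟩ := (hπ ⟨y, hyT⟩).2 z
        exact ⟨sl (Limits.Sigma.ι G₀ ⟨y, hyT⟩) y w, by rw [← sl_comp_apply, Limits.Sigma.ι_desc]⟩
    · haveI : Subsingleton (F.presheaf.stalk y) := not_nontrivial_iff_subsingleton.1 fun hn => hyT (by
        have hk : δ y = k := le_antisymm (hF.2 y hn) hy'
        rw [hα]
        simp only [Cyc.sheafFun, if_pos hk]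
        have hne : Module.length (X.presheaf.stalk y) (F.presheaf.stalk y) ≠ 0 :=
          fun e => not_subsingleton_iff_nontrivial.2 hn (Module.length_eq_zero_iff.1 e)
        have hpos : (Module.length (X.presheaf.stalk y) (F.presheaf.stalk y)).toNat ≠ 0 := fun e =>
          (ENat.toNat_eq_zero.1 e).elim hne (length_lt_top hd hF hy').ne
        omega)
      haveI : Subsingleton ((∐ G₀).presheaf.stalk y) := by
        refine not_nontrivial_iff_subsingleton.1 fun hn => ?_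
        obtain ⟨t, ht⟩ := exists_nontrivial_of_sigma hlG hn
        exact not_subsingleton_iff_nontrivial.2 ht (hpt t y hy' (fun e => hyT (e ▸ t.2)) 0)
      exact ⟨fun _ _ _ => Subsingleton.elim _ _, fun z => ⟨0, Subsingleton.elim _ _⟩⟩
  let I := Σ ζ : T, Fin (α ζ.1).toNat
  let e : I → T × ℕ := fun i => (i.1, i.2.1)
  have he : Function.Injective e := fun i j h => by
    obtain ⟨t, i⟩ := i; obtain ⟨t', j⟩ := j
    simp only [e, Prod.mk.injEq] at h
    obtain ⟨rfl, h⟩ := h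
    exact congrArg (Sigma.mk t) (Fin.ext h)
  have hlenC : ∀ (t : T) j, Module.length (X.presheaf.stalk t.1) ((C (t, j)).presheaf.stalk t.1) =
      if j < n t then 1 else 0 := fun t j => by
    have h : Module.length (X.presheaf.stalk t.1) ((G t j).presheaf.stalk t.1) =
        Module.length (X.presheaf.stalk t.1) ((G t (j + 1)).presheaf.stalk t.1) +
          Module.length (X.presheaf.stalk t.1) ((C (t, j)).presheaf.stalk t.1) := length_stalk (hSS (t, j)) t.1
    rw [hlen, hlen] at h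
    have hne : Module.length (X.presheaf.stalk t.1) ((C (t, j)).presheaf.stalk t.1) ≠ ⊤ := fun e => by simp [e] at h
    generalize Module.length (X.presheaf.stalk t.1) ((C (t, j)).presheaf.stalk t.1) = c at h hne ⊢
    lift c to ℕ using hne
    have hh : n t - j = n t - (j + 1) + c := by exact_mod_cast h
    split_ifs with hj
    · exact_mod_cast (show c = 1 by omega)
    · exact_mod_cast (show c = 0 by omega)
  have hCy : ∀ (t : T) j (y : X), k ≤ δ y → y ≠ t.1 → Subsingleton ((C (t, j)).presheaf.stalk y) :=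
    fun t j y hy hne => by
      haveI := hpt t y hy hne j
      exact (sl_surjective (cokernel.π (f t j)) y).subsingleton
  have e₃ : Cyc.toK0CohQuot δ a b (∐ fun i => C (e i)) = Cyc.toK0CohQuot δ a b (∐ C) := by
    refine crit (Limits.Sigma.desc fun i => Limits.Sigma.ι C (e i)) (cohLe_sigma (hlC.comp he) fun i => hC' _)
      (cohLe_sigma hlC hC') fun y hy => bijective_reindex hlC e he fun ⟨t, j⟩ hp => ?_
    by_cases hyt : y = t.1
    · subst hyt
      refine Module.length_eq_zero_iff.1 ((hlenC t j).trans (if_neg fun hj => hp ⟨⟨t, ⟨j, hj⟩⟩, rfl⟩))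
    · exact hCy t j y (by omega) hyt
  have hgraph : ∀ i : I, ∃ (K : X.Modules) (p : K ⟶ Cyc.closureStructureSheaf i.1.1) (q : K ⟶ C (e i)),
      Cyc.CohLe δ k K ∧ (∀ y, Nontrivial (K.presheaf.stalk y) → i.1.1 ⤳ y) ∧
      Function.Bijective (sl p i.1.1) ∧ Function.Bijective (sl q i.1.1) := fun i => by
    obtain ⟨φ⟩ := linearEquiv_of_length_one (length_self i.1.1)
      ((hlenC i.1 i.2.1).trans (if_pos i.2.2))
    obtain ⟨K, p, q, hK, hKs, -, hp, hq⟩ := exists_graph hd (cohLe_closureStructureSheaf hd (hT i.1).1.le)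
      (hC (e i)) (hT i.1).1.ge (fun y => nontrivial_closureStructureSheaf)
      (fun y hy => hs i.1 i.2.1 y (nontrivial_of_surjective (cokernel.π (f i.1 i.2.1)) hy)) φ.toLinearMap
    exact ⟨K, p, q, hK, hKs, hp, by
      rw [show ⇑(sl q i.1.1) = φ ∘ sl p i.1.1 from funext hq]; exact φ.bijective.comp hp⟩
  choose K p q hK hKs hp hq using hgraph
  have hlK : LFin K := lfin_of_closure (fun i => i.1.1) (fun x => by
    obtain ⟨U, hU, hx, hfin⟩ := hlfT x
    refine ⟨U, hU, hx, (hfin.biUnion fun t _ => Set.finite_range (Sigma.mk t)).subset fun i hi => Set.mem_biUnion (x := i.1) hi ⟨i.2, rfl⟩⟩)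
    hKs
  have hother : ∀ (i : I) (y : X), b < δ y → y ≠ i.1.1 → Subsingleton ((K i).presheaf.stalk y) :=
    fun i y hy hne => not_nontrivial_iff_subsingleton.1 fun hn =>
      hne (CycLib.eq_of_delta_le hd (hKs i y hn) ((hT i.1).1.le.trans (by omega))).symm
  have e₄ : Cyc.toK0CohQuot δ a b (∐ K) = Cyc.toK0CohQuot δ a b (Cyc.cycleSheafPos α) :=
    fam_crit (b := b) p hlK (lfin_pos (lf_sheafFun hd hF)) (fun i => cohLe_of_le hka (hK i))
      (fun i => cohLe_closureStructureSheaf hd ((hT i.1).1.le.trans hka)) fun i y hy => by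
      by_cases hne : y = i.1.1
      · subst hne; exact hp i
      · haveI := hother i y hy hne
        haveI := subsingleton_of_delta hd hne ((hT i.1).1.le.trans (by omega))
        exact ⟨fun _ _ _ => Subsingleton.elim _ _, fun z => ⟨0, Subsingleton.elim _ _⟩⟩
  have e₅ : Cyc.toK0CohQuot δ a b (∐ K) = Cyc.toK0CohQuot δ a b (∐ fun i => C (e i)) :=
    fam_crit (b := b) q hlK (hlC.comp he) (fun i => cohLe_of_le hka (hK i)) (fun i => hC' _) fun i y hy => by
      by_cases hne : y = i.1.1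
      · subst hne; exact hq i
      · haveI := hother i y hy hne
        haveI := hCy i.1 i.2.1 y (by omega) hne
        exact ⟨fun _ _ _ => Subsingleton.elim _ _, fun z => ⟨0, Subsingleton.elim _ _⟩⟩
  rw [← e₂, ← e₁, ← e₃, ← e₅, e₄]

theorem sheafFun_biprod (hd : Cyc.IsDimFun X δ) {F G : X.Modules} (hF : Cyc.CohLe δ k F) (hG : Cyc.CohLe δ k G) :
    Cyc.sheafFun δ k (F ⊞ G) = Cyc.sheafFun δ k F + Cyc.sheafFun δ k G :=
  CycLib.sheafFun_shortExact hd (T := ShortComplex.mk biprod.inl biprod.snd biprod.inl_snd)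
    (ShortComplex.Splitting.shortExact ⟨biprod.fst, biprod.inr, biprod.inl_fst, biprod.inr_snd, biprod.total⟩)
    hF.1 (cohLe_biprod hF hG).1 hG.1 (cohLe_biprod hF hG).2

/-- Modules with equal cycles have equal classes. -/
theorem class_congr (hd : Cyc.IsDimFun X δ) {F G : X.Modules} (hF : Cyc.CohLe δ k F) (hG : Cyc.CohLe δ k G)
    (hka : k ≤ a) (hkb : k - 1 ≤ b) (h : Cyc.sheafFun δ k F = Cyc.sheafFun δ k G) :
    Cyc.toK0CohQuot δ a b F = Cyc.toK0CohQuot δ a b G := by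
  rw [class_eq hd hF hka hkb, class_eq hd hG hka hkb, h]

/-- The class of a difference of modules is the class of the difference of their cycles. -/
theorem class_sub (hd : Cyc.IsDimFun X δ) {F G : X.Modules} (hF : Cyc.CohLe δ k F) (hG : Cyc.CohLe δ k G)
    (hka : k ≤ a) (hkb : k - 1 ≤ b) {γ : X → ℤ} (hγ : LF γ) (hγk : ∀ x, γ x ≠ 0 → δ x = k)
    (h : ∀ x, δ x = k → Cyc.sheafFun δ k F x - Cyc.sheafFun δ k G x = γ x) :
    Cyc.toK0CohQuot δ a b F - Cyc.toK0CohQuot δ a b G =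
      Cyc.toK0CohQuot δ a b (Cyc.cycleSheafPos γ) - Cyc.toK0CohQuot δ a b (Cyc.cycleSheafNeg γ) := by
  have hγ' : LF (-γ) := fun x => by
    obtain ⟨U, hU, hx, hfin⟩ := hγ x
    exact ⟨U, hU, hx, hfin.subset fun ζ hζ => ⟨hζ.1, fun e => hζ.2 (by simp [e])⟩⟩
  have hk' : ∀ x, (-γ) x ≠ 0 → δ x = k := fun x hx => hγk x fun e => hx (by simp [e])
  have hP : Cyc.CohLe δ k (Cyc.cycleSheafPos γ) := cohLe_pos hd hγ fun ζ hζ => (hγk ζ hζ.ne').le
  have hN : Cyc.CohLe δ k (Cyc.cycleSheafNeg γ) := cohLe_pos hd hγ' fun ζ hζ => (hk' ζ hζ.ne').le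
  have := class_congr (a := a) (b := b) hd (cohLe_biprod hF hN) (cohLe_biprod hG hP) hka hkb (by
    rw [sheafFun_biprod hd hF hN, sheafFun_biprod hd hG hP, Cyc.cycleSheafNeg, sheafFun_pos hd hγ' hk',
      sheafFun_pos hd hγ hγk]
    funext x
    simp only [Pi.add_apply, Pi.neg_apply]
    by_cases hx : δ x = k
    · have := h x hx
      omega
    · have : γ x = 0 := by_contra fun e => hx (hγk x e)
      simp [Cyc.sheafFun, hx, this])
  rw [biprod_eq (cohLe_of_le hka hF) (cohLe_of_le hka hN), biprod_eq (cohLe_of_le hka hG) (cohLe_of_le hka hP)] at this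
  rw [sub_eq_sub_iff_add_eq_add]
  rw [this]; abel

end Groth.Agent.CycK
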