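import Groth.Agent.CycK.LFDev
import Groth.Agent.KZ.ClosedDev

/-! Coherent modules supported on a closed subscheme. -/

set_option autoImplicit false
set_option linter.style.haveILetI false
set_option linter.unusedSectionVars false
set_option backward.isDefEq.respectTransparency false
set_option backward.isDefEq.respectTransparency.types false

universe u

open CategoryTheory CategoryTheory.Limits AlgebraicGeometry TopologicalSpace Opposite ZeroObject

namespace Groth.Agent.CycK.ClosedSupp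

variable {X Z : Scheme.{u}} [IsLocallyNoetherian X] (i : Z ⟶ X) [IsClosedImmersion i]

/-- Coherent modules supported in the closed subscheme. -/
def suppP : ObjectProperty X.Modules :=
  fun G => Coh.IsCoh G ∧ ∀ x : X, Nontrivial (G.presheaf.stalk x) → x ∈ Set.range ⇑i

/-- Coherent modules killed by the ideal of the closed subscheme. -/
def killQ : ObjectProperty X.Modules := fun G => Coh.IsCoh G ∧ KZ.ClosedDev.Killed i G

theorem isCoh_of_isZero {A : X.Modules} (h : IsZero A) : Coh.IsCoh A :=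
  SheafHomX.isCoh_of_iso (h.iso (isZero_zero _)).symm KZ.isCoh_zero

theorem cls_suppP : LFDev.Cls (suppP i) where
  coh h := h.1
  sub φ _ hA h := ⟨hA, fun x hx => h.2 x (nontrivial_of_injective φ hx)⟩
  quot φ _ hB h := ⟨hB, fun x hx => h.2 x (nontrivial_of_surjective φ hx)⟩
  sigma hl hF := ⟨isCoh_sigma hl fun j => (hF j).1, fun x hx =>
    let ⟨j, hj⟩ := exists_nontrivial_of_sigma hl hx
    (hF j).2 x hj⟩
  zero h := ⟨isCoh_of_isZero h, fun x hx =>
    absurd (subsingleton_stalk_of_isZero h x) (not_subsingleton_iff_nontrivial.2 hx)⟩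

theorem cls_killQ : LFDev.Cls (killQ i) where
  coh h := h.1
  sub φ _ hA h := ⟨hA, h.2.of_mono i φ⟩
  quot φ _ hB h := ⟨hB, h.2.of_epi i φ h.1.1 hB.1⟩
  zero h := ⟨isCoh_of_isZero h, KZ.ClosedDev.Killed.of_isZero i h⟩
  sigma {ι F} hl hF := ⟨isCoh_sigma hl fun j => (hF j).1, fun U a ha s => by
    refine TopCat.Presheaf.section_ext (show TopCat.Sheaf AddCommGrpCat.{u} X.toPresheafedSpace.carrier
      from ⟨(∐ F).presheaf, (∐ F).isSheaf⟩) U.1 _ _ fun x hx => ?_
    show (∐ F).presheaf.germ U.1 x hx (a • s) = (∐ F).presheaf.germ U.1 x hx 0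
    rw [map_zero]
    refine sigma_eq_zero hl fun j => ?_
    rw [sl_germ, Scheme.Modules.Hom.app_smul, (hF j).2 U a ha, map_zero]⟩

theorem killed_cokernel_idealMul {G : X.Modules} (hG : Coh.IsQCoh G) :
    KZ.ClosedDev.Killed i (cokernel (Dual3.idealMulι i.ker G)) := fun U a ha s => by
  obtain ⟨t, rfl⟩ := QCoh.app_surjective_of_epi hG
    (QCoh.isQCoh_cokernel (QCoh.isQCoh_idealMul i.ker hG) hG _) (cokernel.π (Dual3.idealMulι i.ker G)) U.2 s
  rw [← Scheme.Modules.Hom.app_smul]
  haveI : Mono (Dual3.idealMulι i.ker G) := by unfold Dual3.idealMulι; infer_instance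
  refine (QCoh.mem_range_iff_cokernel (Dual3.idealMulι i.ker G) U.1 _).2 ?_
  rw [QCoh.range_idealMul i.ker hG U.2]
  exact Submodule.smul_mem_smul ha Submodule.mem_top

/-- The powers of the ideal, as submodules. -/
noncomputable def pw (G : X.Modules) : ℕ → Σ A : X.Modules, A ⟶ G
  | 0 => ⟨G, 𝟙 G⟩
  | n + 1 => ⟨(Dual3.idealMul i.ker).obj (pw G n).1, Dual3.idealMulι i.ker (pw G n).1 ≫ (pw G n).2⟩

theorem mono_pw (G : X.Modules) : ∀ n, Mono (pw i G n).2
  | 0 => inferInstanceAs (Mono (𝟙 G))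
  | n + 1 => by
    haveI := mono_pw G n
    haveI : Mono (Dual3.idealMulι i.ker (pw i G n).1) := by unfold Dual3.idealMulι; infer_instance
    exact mono_comp _ _

theorem isCoh_pw {G : X.Modules} (hG : Coh.IsCoh G) : ∀ n, Coh.IsCoh (pw i G n).1
  | 0 => hG
  | n + 1 => by
    haveI : Mono (Dual3.idealMulι i.ker (pw i G n).1) := by unfold Dual3.idealMulι; infer_instance
    exact QCoh.isCoh_of_mono (Dual3.idealMulι i.ker (pw i G n).1) (isCoh_pw hG n)
      (QCoh.isQCoh_idealMul _ (isCoh_pw hG n).1)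

theorem range_pw {G : X.Modules} (hG : Coh.IsCoh G) (U : X.affineOpens) :
    ∀ n, LinearMap.range (QCoh.appLin (pw i G n).2 U.1) ≤ i.ker.ideal U ^ n • ⊤
  | 0 => by rw [pow_zero, Ideal.one_eq_top, Submodule.top_smul]; exact le_top
  | n + 1 => by
    rw [pw, QCoh.range_idealMul_comp i.ker (isCoh_pw i hG n).1 _ U.2, pow_succ', mul_smul]
    exact Submodule.smul_mono le_rfl (range_pw hG U n)

theorem exists_kill {G : X.Modules} (hG : suppP i G) (U : X.affineOpens) :
    ∃ n : ℕ, ∀ m, n ≤ m → Subsingleton Γ((pw i G m).1, U.1) := by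
  haveI := QCoh.noetherian_sections (X := X) U
  haveI := QCoh.finite_sections hG.1 U.2
  obtain ⟨n, hn⟩ : ∃ n : ℕ, i.ker.ideal U ^ n ≤ Module.annihilator Γ(X, U.1) Γ(G, U.1) := by
    refine Ideal.exists_pow_le_of_le_radical_of_fg ?_ (IsNoetherian.noetherian _)
    rw [Ideal.radical_eq_sInf]
    refine le_sInf fun q ⟨hle, hq⟩ a ha => ?_
    set x := U.2.fromSpec ⟨q, hq⟩ with hxdef
    have hxU : x ∈ U.1 := U.2.range_fromSpec.le (Set.mem_range_self _)
    have hxN : x ∈ CohB1.support G := by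
      refine (QCoh.mem_moduleSupport_iff hG.1.1 U.2 hxU).1 ?_
      have hq' : U.2.primeIdealOf ⟨x, hxU⟩ = ⟨q, hq⟩ :=
        U.2.fromSpec.isOpenEmbedding.injective (U.2.fromSpec_primeIdealOf _)
      rw [hq', Module.support_eq_zeroLocus]
      exact hle
    have hxJ : x ∈ i.ker.support := by
      have := hG.2 x (not_subsingleton_iff_nontrivial.1 hxN)
      rw [← SetLike.mem_coe, Scheme.Hom.support_ker]
      exact subset_closure this
    have hxJ := (Scheme.IdealSheafData.mem_support_iff_of_mem hxU).1 hxJ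
    rw [Scheme.mem_zeroLocus_iff] at hxJ
    by_contra hna
    exact hxJ a ha ((QCoh.mem_basicOpen_fromSpec U.2 ⟨q, hq⟩ a).2 hna)
  refine ⟨n, fun m hm => subsingleton_of_forall_eq 0 fun s => ?_⟩
  haveI := mono_pw i G m
  refine QCoh.app_injective (pw i G m).2 U.1 ?_
  rw [map_zero]
  have h := range_pw i hG.1 U m ⟨s, rfl⟩
  refine (Submodule.mem_bot Γ(X, U.1)).1 ((Submodule.smul_le (P := (⊥ : Submodule _ _))).2 ?_ h)
  intro r hr g _
  exact (Submodule.mem_bot _).2 (Module.mem_annihilator.1 (hn (Ideal.pow_le_pow_right hm hr)) g)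

/-- The adic filtration. -/
noncomputable def adic {G : X.Modules} (hG : suppP i G) : LFDev.Fl (killQ i) G where
  obj n := (pw i G n).1
  f n := Dual3.idealMulι i.ker (pw i G n).1
  π n := (pw i G n).2
  w _ := rfl
  mono := mono_pw i G
  top := inferInstanceAs (IsIso (𝟙 G))
  coh := isCoh_pw i hG.1
  q n := ⟨QCoh.isCoh_cokernel (isCoh_pw i hG.1 (n + 1)).1 (isCoh_pw i hG.1 n) _,
    killed_cokernel_idealMul i (isCoh_pw i hG.1 n).1⟩
  lfin x := by
    obtain ⟨U, hU, hxU, -⟩ := exists_isAffineOpen_mem_and_subset (x := x) (U := (⊤ : X.Opens)) trivial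
    obtain ⟨N, hN⟩ := exists_kill i hG ⟨U, hU⟩
    refine ⟨U, hxU, ((Set.finite_lt_nat N).image ULift.up.{u}).subset fun n ⟨y, hy, hn⟩ => ⟨n.down, ?_, rfl⟩⟩
    by_contra hc
    refine not_subsingleton_iff_nontrivial.2 hn ((QCoh.subsingleton_stalk_iff (isCoh_pw i hG.1 _).1 hU hy).2
      fun m => ⟨1, ?_, ?_⟩)
    · rw [X.mem_basicOpen _ y hy, map_one]; exact isUnit_one
    · haveI := hN n.down (not_lt.1 hc)
      exact Subsingleton.elim _ _

theorem suppP_of_killQ {G : X.Modules} (h : killQ i G) : suppP i G := by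
  refine ⟨h.1, fun x hx => ?_⟩
  obtain ⟨U, hU, hxU, -⟩ := exists_isAffineOpen_mem_and_subset (x := x) (U := (⊤ : X.Opens)) trivial
  have hxJ : x ∈ i.ker.support := by
    rw [Scheme.IdealSheafData.mem_support_iff_of_mem (U := ⟨U, hU⟩) hxU, Scheme.mem_zeroLocus_iff]
    intro a ha hxa
    exact not_subsingleton_iff_nontrivial.2 hx ((QCoh.subsingleton_stalk_iff h.1.1 hU hxU).2
      fun m => ⟨a, hxa, h.2 ⟨U, hU⟩ a ha m⟩)
  rw [← SetLike.mem_coe, Scheme.Hom.support_ker, i.isClosedEmbedding.isClosed_range.closure_eq] at hxJ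
  exact hxJ

theorem killQ_push {M : Z.Modules} (hM : Coh.IsCoh M) : killQ i ((Scheme.Modules.pushforward i).obj M) :=
  haveI := LocallyOfFiniteType.isLocallyNoetherian i
  ⟨QCoh.isCoh_pushforward_finite i hM, KZ.ClosedDev.killed_push i M⟩

/-- Dévissage to the closed subscheme. -/
theorem exists_equiv [(Scheme.Modules.pushforward i).Additive] [PreservesFiniteLimits (Scheme.Modules.pushforward i)]
    [PreservesFiniteColimits (Scheme.Modules.pushforward i)] :
    ∃ φ : KZero.K0sub (fun F : Z.Modules => Coh.IsCoh F) ≃+ KZero.K0sub (suppP i),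
      ∀ F : Z.Modules, Coh.IsCoh F → φ (KZero.clSub (fun F : Z.Modules => Coh.IsCoh F) F) =
        KZero.clSub (suppP i) ((Scheme.Modules.pushforward i).obj F) := by
  haveI : IsLocallyNoetherian Z := LocallyOfFiniteType.isLocallyNoetherian i
  haveI : (Scheme.Modules.pushforward i).Faithful :=
    ⟨fun {A B} {f g} h => KZ.ClosedDev.push_map_injective i f g h⟩
  obtain ⟨φ, hφ⟩ := LFDev.exists_equiv (cls_suppP i) (cls_killQ i) (fun M hM => suppP_of_killQ i hM)
    fun M hM => ⟨adic i hM⟩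
  obtain ⟨ψ, hψ⟩ := KZ.exists_equiv_sub (Scheme.Modules.pushforward i) (fun M : Z.Modules => Coh.IsCoh M) (killQ i)
    (fun M hM => killQ_push i hM)
    (fun M N hM _ => KZ.ClosedDev.push_map_bijective i (killQ_push i hM).1.1)
    (fun S _ _ _ hS => by
      exact .mk' ((ShortComplex.exact_map_iff_of_faithful S _).1 hS.exact)
        ((Scheme.Modules.pushforward i).mono_of_mono_map hS.mono_f)
        ((Scheme.Modules.pushforward i).epi_of_epi_map hS.epi_g))
    (fun M hM => by
      have := (QCoh.isIso_unit_closed_iff i hM.1.1).2 hM.2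
      exact ⟨_, KZ.ClosedDev.isCoh_pull i hM.1,
        ⟨(asIso ((Scheme.Modules.pullbackPushforwardAdjunction i).unit.app M)).symm⟩⟩)
    ⟨0, isZero_zero _, KZ.isCoh_zero⟩
  exact ⟨ψ.trans φ, fun F hF => by rw [AddEquiv.trans_apply, hψ F hF, hφ _ (killQ_push i hF)]⟩

end Groth.Agent.CycK.ClosedSupp
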