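import Groth.Agent.CycK.Twist
import Groth.Agent.CycLib.CurveDeg
import Groth.Agent.H23.SetupLFT
import Groth.Agent.CycLib.P1Div
import Groth.Agent.IntSym.Bridge
import Groth.Agent.CurveCohLib.Skyscraper
import Groth.Agent.WeilLib.PointCount
import Groth.Agent.DimFormula.Jacobson
import Groth.Agent.FibDim.Top
import Groth.Agent.H23.C1Cycle

/-! Intersection symbols as degrees of cycles on proper schemes over a field. -/

noncomputable section

set_option autoImplicit false
set_option linter.style.haveILetI false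
set_option linter.unusedSectionVars false
set_option backward.isDefEq.respectTransparency false
set_option backward.isDefEq.respectTransparency.types false

universe u

open CategoryTheory CategoryTheory.Limits AlgebraicGeometry TopologicalSpace Opposite

namespace Groth.Agent.CycK

section Sum

variable {X : Scheme.{u}} [IsLocallyNoetherian X] {δ : X → ℤ} {a b k : ℤ}

theorem lf_of_finite {α : X → ℤ} (h : (Function.support α).Finite) : LF α := fun _ =>
  ⟨Set.univ, isOpen_univ, trivial, h.subset fun _ hζ => hζ.2⟩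

theorem finite_of_lf [CompactSpace X] {α : X → ℤ} (h : LF α) : (Function.support α).Finite := by
  choose U hU hx hfin using h
  obtain ⟨t, ht⟩ := isCompact_univ.elim_finite_subcover U hU fun x _ => Set.mem_iUnion.2 ⟨x, hx x⟩
  refine (t.finite_toSet.biUnion fun x _ => hfin x).subset fun ζ hζ => ?_
  obtain ⟨x, hxt, hζU⟩ := Set.mem_iUnion₂.1 (ht (Set.mem_univ ζ))
  exact Set.mem_biUnion hxt ⟨hζU, hζ⟩

theorem sheafFun_point (hd : Cyc.IsDimFun X δ) {x : X} (hx : δ x = k) (y : X) [Decidable (y = x)] :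
    Cyc.sheafFun δ k (Cyc.closureStructureSheaf x) y = if y = x then 1 else 0 := by
  simp only [Cyc.sheafFun]
  split_ifs with h h' h'
  · subst h'; rw [length_self]; rfl
  · haveI := subsingleton_of_delta hd h' (hx.trans h.symm).le
    rw [Module.length_eq_zero_iff.2 ‹_›]; rfl
  · exact absurd (h' ▸ hx) h
  · rfl

/-- An additive functional sees a finite cycle through the closures of its points. -/
theorem pos_eq_sum (hd : Cyc.IsDimFun X δ) (hka : k ≤ a) (hkb : k - 1 ≤ b) :
    ∀ (n : ℕ) (α : X → ℤ), (∀ x, 0 ≤ α x) → (Function.support α).Finite → (∀ x, α x ≠ 0 → δ x = k) →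
      (∑ᶠ x, (α x).toNat) = n →
      Cyc.toK0CohQuot δ a b (Cyc.cycleSheafPos α) =
        ∑ᶠ x, α x • Cyc.toK0CohQuot δ a b (Cyc.closureStructureSheaf x) := by
  classical
  intro n
  induction n with
  | zero =>
    intro α hα hf hk hn
    have h0 : ∀ x, α x = 0 := fun x => by
      have hf' : (Function.support fun x => (α x).toNat).Finite := hf.subset fun x hx h => hx (by simp [h])
      have := finsum_eq_zero_of_forall_eq_zero (f := fun x => (α x).toNat)
      have h1 : (α x).toNat = 0 := Nat.eq_zero_of_le_zero (hn ▸ single_le_finsum x hf' fun _ => Nat.zero_le _)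
      have := hα x
      omega
    rw [finsum_eq_zero_of_forall_eq_zero fun x => by simp [h0 x]]
    refine (class_congr hd (cohLe_pos hd (lf_of_finite hf) fun x hx => (hk x hx.ne').le) cohLe_zero hka hkb ?_).trans
      (eq_zero_of_small cohLe_zero)
    rw [sheafFun_pos hd (lf_of_finite hf) hk]
    funext x
    haveI := subsingleton_stalk_of_isZero (isZero_zero X.Modules) x
    simp only [h0, Cyc.sheafFun, Module.length_eq_zero_iff.2 this]
    split_ifs <;> simp
  | succ n ih =>
    intro α hα hf hk hn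
    obtain ⟨x, hx⟩ : ∃ x, 0 < α x := by
      by_contra hc
      push Not at hc
      rw [finsum_eq_zero_of_forall_eq_zero fun x => by have := hc x; omega] at hn
      omega
    let β : X → ℤ := fun y => if y = x then α y - 1 else α y
    have hsub : Function.support β ⊆ Function.support α := fun y hy h => hy (by
      simp only [β]; split_ifs with h'
      · subst h'; exact absurd h hx.ne'
      · exact h)
    have hfβ := hf.subset hsub
    have hβ : ∀ y, 0 ≤ β y := fun y => by
      simp only [β]; split_ifs with h'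
      · subst h'; omega
      · exact hα y
    have hkβ : ∀ y, β y ≠ 0 → δ y = k := fun y hy => hk y fun h => hsub hy h
    have hsplit : ∀ y, α y = β y + (if y = x then 1 else 0) := fun y => by simp only [β]; split_ifs <;> omega
    have hfx : (Function.support fun y : X => if y = x then (1 : ℕ) else 0).Finite :=
      (Set.finite_singleton x).subset fun y hy => by by_contra h; exact hy (if_neg h)
    have hnβ : ∑ᶠ y, (β y).toNat = n := by
      have e : (fun y => (α y).toNat) = fun y => (β y).toNat + (if y = x then 1 else 0) := funext fun y => by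
        have h1 := hsplit y
        have h2 := hβ y
        split_ifs at h1 ⊢ <;> omega
      rw [e, finsum_add_distrib (hfβ.subset fun y hy h => hy (by simp [h])) hfx,
        finsum_eq_single _ x fun y hy => if_neg hy, if_pos rfl] at hn
      omega
    have hPβ := cohLe_pos hd (lf_of_finite hfβ) fun y hy => (hkβ y hy.ne').le
    have hPx : Cyc.CohLe δ k (Cyc.closureStructureSheaf x) := cohLe_closureStructureSheaf hd (hk x hx.ne').le
    rw [class_congr hd (cohLe_pos hd (lf_of_finite hf) fun y hy => (hk y hy.ne').le) (cohLe_biprod hPβ hPx) hka hkb ?_,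
      biprod_eq (cohLe_of_le hka hPβ) (cohLe_of_le hka hPx), ih β hβ hfβ hkβ hnβ]
    · have hfs : (Function.support fun y => (if y = x then (1 : ℤ) else 0) •
          Cyc.toK0CohQuot δ a b (Cyc.closureStructureSheaf y)).Finite :=
        (Set.finite_singleton x).subset fun y hy => by by_contra h; exact hy (by simp [show y ≠ x from h])
      rw [show (fun y => α y • Cyc.toK0CohQuot δ a b (Cyc.closureStructureSheaf y)) = fun y =>
          β y • Cyc.toK0CohQuot δ a b (Cyc.closureStructureSheaf y) +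
            (if y = x then (1 : ℤ) else 0) • Cyc.toK0CohQuot δ a b (Cyc.closureStructureSheaf y) from
        funext fun y => (congrArg (· • Cyc.toK0CohQuot δ a b (Cyc.closureStructureSheaf y)) (hsplit y)).trans (add_zsmul _ _ _),
        finsum_add_distrib (hfβ.subset fun y hy h => hy (by simp [h])) hfs,
        finsum_eq_single (fun y => (if y = x then (1 : ℤ) else 0) •
          Cyc.toK0CohQuot δ a b (Cyc.closureStructureSheaf y)) x fun y hy => by simp [hy]]
      simp
    · rw [sheafFun_biprod hd hPβ hPx, sheafFun_pos hd (lf_of_finite hf) hk, sheafFun_pos hd (lf_of_finite hfβ) hkβ]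
      funext y
      rw [Pi.add_apply, sheafFun_point hd (hk x hx.ne')]
      have h1 := hsplit y
      have h2 := hβ y
      have h3 := hα y
      omega

end Sum

variable (K : Type u) [Field K] {X : Scheme.{u}} [X.Over (Spec (CommRingCat.of K))]
  [IsProper (X ↘ Spec (CommRingCat.of K))] {δ : X → ℤ}

theorem isSetup_over (hδ : Cyc.DeltaCompat (X ↘ Spec (CommRingCat.of K)) δ (fun _ => 0)) : Cyc.IsSetup X δ :=
  H23.SetupLFT.isSetup _ (CycLib.isSetup_spec_field K) hδ

theorem delta_eq_rd (hδ : Cyc.DeltaCompat (X ↘ Spec (CommRingCat.of K)) δ (fun _ => 0)) (x : X) :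
    δ x = (FibDim.rd (X ↘ Spec (CommRingCat.of K)) x : ℤ) := by
  rw [CycLib.deltaCompat_eq _ hδ x, zero_add]

variable {K}

theorem delta_nonneg (hδ : Cyc.DeltaCompat (X ↘ Spec (CommRingCat.of K)) δ (fun _ => 0)) (x : X) : 0 ≤ δ x := by
  rw [delta_eq_rd K hδ]; exact Int.natCast_nonneg _

theorem dim_support_le (hδ : Cyc.DeltaCompat (X ↘ Spec (CommRingCat.of K)) δ (fun _ => 0)) {T : Set X}
    (hT : IsClosed T) {n : ℕ} (h : ∀ x ∈ T, δ x ≤ n) : topologicalKrullDim ↥T ≤ (n : WithBot ℕ∞) := by
  haveI : QuasiSober ↥T := hT.isClosedEmbedding_subtypeVal.quasiSober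
  rw [DimFormula.topologicalKrullDim_subset]
  refine iSup_le fun l => ?_
  have hd := (isSetup_over K hδ).2.2
  have key : ∀ i : Fin (l.length + 1), (i : ℕ) ≤ δ (l i).1 := by
    intro i
    induction i using Fin.induction with
    | zero =>
      rw [delta_eq_rd K hδ]
      exact Int.natCast_nonneg _
    | succ i ih =>
      have hlt : l i.castSucc < l i.succ := l.step i
      have hsp : (l i.succ).1 ⤳ (l i.castSucc).1 := hlt.le
      have hne : (l i.succ).1 ≠ (l i.castSucc).1 := fun e => hlt.ne (Subtype.ext e.symm)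
      have := CycLib.delta_lt hd hsp hne
      simp only [Fin.val_succ, Fin.val_castSucc] at ih ⊢
      omega
  have h1 := key (Fin.last _)
  have h2 := h _ (l (Fin.last l.length)).2
  simp only [Fin.val_last] at h1
  exact_mod_cast (show l.length ≤ n by omega)

theorem delta_le_dim (hδ : Cyc.DeltaCompat (X ↘ Spec (CommRingCat.of K)) δ (fun _ => 0)) {T : Set X}
    (hT : IsClosed T) {n : ℕ} (h : topologicalKrullDim ↥T ≤ (n : WithBot ℕ∞)) {x : X} (hx : x ∈ T) : δ x ≤ n := by
  have := (H23.TopDim.dim_le_dim_of_subset (hT.closure_subset_iff.2 (Set.singleton_subset_iff.2 hx))).trans h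
  rw [FibDim.topologicalKrullDim_closure (X ↘ Spec (CommRingCat.of K)) x] at this
  rw [delta_eq_rd K hδ]
  exact_mod_cast this

theorem dimLT_of_cohLe (hδ : Cyc.DeltaCompat (X ↘ Spec (CommRingCat.of K)) δ (fun _ => 0)) {F : X.Modules}
    {m : ℕ} (hF : Cyc.CohLe δ ((m : ℤ) - 1) F) : HilbPoly.DimLT F m := by
  have hs : ∀ x ∈ CohB1.support F, δ x ≤ (m : ℤ) - 1 := fun x hx => hF.2 x (not_subsingleton_iff_nontrivial.1 hx)
  rcases m with _ | m
  · have h0 : CohB1.support F = ∅ := Set.eq_empty_of_forall_notMem fun x hx => by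
      have := hs x hx
      rw [delta_eq_rd K hδ] at this
      omega
    show topologicalKrullDim ↥(CohB1.support F) < _
    rw [h0, topologicalKrullDim, Order.krullDim_eq_bot_iff.2]
    · exact WithBot.bot_lt_coe _
    · exact ⟨fun s => s.2.1.ne_empty (Set.eq_empty_of_isEmpty s.1)⟩
  · refine lt_of_le_of_lt (dim_support_le (δ := δ) hδ (QCoh.isClosed_support_of_isFT hF.1.1 hF.1.2) (n := m)
      fun x hx => ?_) (by exact_mod_cast Nat.lt_succ_self m)
    have := hs x hx
    omega

/-- A symbol of length `m` as a functional on the quotient modulo dimension `< m`. -/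
theorem exists_sym_hom [IsLocallyNoetherian X] (hδ : Cyc.DeltaCompat (X ↘ Spec (CommRingCat.of K)) δ (fun _ => 0)) {l : List X.Modules}
    (hl : IntSym.Inv l) {m : ℕ} (hm : l.length = m) (a : ℤ) :
    ∃ Ψ : Cyc.K0CohQuot δ a ((m : ℤ) - 1) →+ ℤ, ∀ F, Cyc.CohLe δ a F →
      Ψ (Cyc.toK0CohQuot δ a ((m : ℤ) - 1) F) = IntSym.sym K l F :=
  exists_hom (IntSym.sym K l) (fun S hS h₁ h₂ h₃ => (IntSym.additive_sym K hl).add S hS h₁.1 h₂.1 h₃.1)
    fun F _ hF => IntSym.sym_eq_zero K hl hF.1 (hm ▸ dimLT_of_cohLe hδ hF)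

theorem sym_pos_sub_neg (hδ : Cyc.DeltaCompat (X ↘ Spec (CommRingCat.of K)) δ (fun _ => 0)) {l : List X.Modules}
    (hl : IntSym.Inv l) {m : ℕ} (hm : l.length = m) {γ : X → ℤ} (hf : (Function.support γ).Finite)
    (hk : ∀ x, γ x ≠ 0 → δ x = (m : ℤ)) :
    IntSym.sym K l (Cyc.cycleSheafPos γ) - IntSym.sym K l (Cyc.cycleSheafNeg γ) =
      ∑ᶠ x, γ x * IntSym.sym K l (Cyc.closureStructureSheaf x) := by
  classical
  haveI := CurveCohLib.isNoetherian_of_proper (k := K) (X := X)
  have hd := (isSetup_over K hδ).2.2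
  obtain ⟨Ψ, hΨ⟩ := exists_sym_hom hδ hl hm (m : ℤ)
  have key : ∀ α : X → ℤ, (∀ x, 0 ≤ α x) → (Function.support α).Finite → (∀ x, α x ≠ 0 → δ x = (m : ℤ)) →
      IntSym.sym K l (Cyc.cycleSheafPos α) = ∑ᶠ x, α x * IntSym.sym K l (Cyc.closureStructureSheaf x) := by
    intro α hα hfα hkα
    rw [← hΨ _ (cohLe_pos hd (lf_of_finite hfα) fun x hx => (hkα x hx.ne').le),
      pos_eq_sum hd le_rfl le_rfl _ α hα hfα hkα rfl, AddMonoidHom.map_finsum _ (hfα.subset fun x hx h => hx (by simp [h]))]
    refine finsum_congr fun x => ?_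
    rw [map_zsmul, smul_eq_mul]
    rcases eq_or_ne (α x) 0 with h | h
    · simp [h]
    · rw [hΨ _ (cohLe_closureStructureSheaf hd (hkα x h).le)]
  let p : X → ℤ := fun x => max (γ x) 0
  let q : X → ℤ := fun x => max (-γ x) 0
  have hpf : (Function.support p).Finite := hf.subset fun x hx h => hx (by simp [p, h])
  have hqf : (Function.support q).Finite := hf.subset fun x hx h => hx (by simp [q, h])
  have hpk : ∀ x, p x ≠ 0 → δ x = (m : ℤ) := fun x hx => hk x fun h => hx (by simp [p, h])
  have hqk : ∀ x, q x ≠ 0 → δ x = (m : ℤ) := fun x hx => hk x fun h => hx (by simp [q, h])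
  have hl' : LF (-γ) := lf_of_finite (by simpa using hf)
  have hnk : ∀ x, (-γ) x ≠ 0 → δ x = (m : ℤ) := fun x hx => hk x fun h => hx (by simp [h])
  have e₁ : IntSym.sym K l (Cyc.cycleSheafPos γ) = IntSym.sym K l (Cyc.cycleSheafPos p) := by
    rw [← hΨ _ (cohLe_pos hd (lf_of_finite hf) fun x hx => (hk x hx.ne').le),
      ← hΨ _ (cohLe_pos hd (lf_of_finite hpf) fun x hx => (hpk x hx.ne').le)]
    refine congrArg Ψ (class_congr hd (cohLe_pos hd (lf_of_finite hf) fun x hx => (hk x hx.ne').le)
      (cohLe_pos hd (lf_of_finite hpf) fun x hx => (hpk x hx.ne').le) le_rfl le_rfl ?_)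
    rw [sheafFun_pos hd (lf_of_finite hf) hk, sheafFun_pos hd (lf_of_finite hpf) hpk]
    funext x
    simp [p]
  have e₂ : IntSym.sym K l (Cyc.cycleSheafNeg γ) = IntSym.sym K l (Cyc.cycleSheafPos q) := by
    rw [Cyc.cycleSheafNeg, ← hΨ _ (cohLe_pos hd hl' fun x hx => (hnk x hx.ne').le),
      ← hΨ _ (cohLe_pos hd (lf_of_finite hqf) fun x hx => (hqk x hx.ne').le)]
    refine congrArg Ψ (class_congr hd (cohLe_pos hd hl' fun x hx => (hnk x hx.ne').le)
      (cohLe_pos hd (lf_of_finite hqf) fun x hx => (hqk x hx.ne').le) le_rfl le_rfl ?_)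
    rw [sheafFun_pos hd hl' hnk, sheafFun_pos hd (lf_of_finite hqf) hqk]
    funext x
    simp [q]
  rw [e₁, e₂, key p (fun x => le_max_right _ _) hpf hpk, key q (fun x => le_max_right _ _) hqf hqk,
    ← finsum_sub_distrib (hpf.subset fun x hx h => hx (by simp [h])) (hqf.subset fun x hx h => hx (by simp [h]))]
  refine finsum_congr fun x => ?_
  rw [← sub_mul, show p x - q x = γ x by simp only [p, q]; omega]

theorem finite_support_c1CapFun {X : Scheme.{u}} [IsLocallyNoetherian X] [CompactSpace X] {δ : X → ℤ}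
    (hd : Cyc.IsDimFun X δ) {L : X.Modules} (hL : PicF.IsInvertible L)
    (s : (ξ : X) → Cyc.secFibre L ξ) (hs : ∀ ξ, s ξ ≠ 0) {α : X → ℤ} (hα : (Function.support α).Finite) :
    (Function.support (Cyc.c1CapFun δ L α s)).Finite :=
  finite_of_lf (lf_cycle (H23.RatSec.c1CapCycle hL hd
    { toFun := α
      supportWithinDomain' := fun _ _ => trivial
      supportLocallyFiniteWithinDomain' := fun _ _ =>
        ⟨Set.univ, Filter.univ_mem, hα.subset fun _ h => h.2⟩ } s hs))

theorem exists_ne_of_finsum {ι M : Type*} [AddCommMonoid M] {f : ι → M} (h : ∑ᶠ i, f i ≠ 0) : ∃ i, f i ≠ 0 := by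
  by_contra hc
  push Not at hc
  exact h (finsum_eq_zero_of_forall_eq_zero hc)

/-- **Descending one step.** -/
theorem sym_step (hδ : Cyc.DeltaCompat (X ↘ Spec (CommRingCat.of K)) δ (fun _ => 0)) {l : List X.Modules}
    (hl : IntSym.Inv l) {m : ℕ} (hm : l.length = m) {L : X.Modules} (hL : PicF.IsInvertible L) {F : X.Modules}
    (hF : Cyc.CohLe δ ((m : ℤ) + 1) F) (s : (ξ : X) → Cyc.secFibre L ξ) (hs : ∀ ξ, s ξ ≠ 0) :
    IntSym.sym K (L :: l) F = ∑ᶠ x, Cyc.c1CapFun δ L (Cyc.sheafFun δ ((m : ℤ) + 1) F) s x *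
      IntSym.sym K l (Cyc.closureStructureSheaf x) := by
  haveI := CurveCohLib.isNoetherian_of_proper (k := K) (X := X)
  have hd := (isSetup_over K hδ).2.2
  have hfα := finite_of_lf (lf_sheafFun hd hF)
  set γ := Cyc.c1CapFun δ L (Cyc.sheafFun δ ((m : ℤ) + 1) F) s
  have hfγ : (Function.support γ).Finite := finite_support_c1CapFun hd hL s hs hfα
  have hγk : ∀ x, γ x ≠ 0 → δ x = (m : ℤ) := fun x hx => by
    obtain ⟨ξ, hξ⟩ := exists_ne_of_finsum hx
    rw [mul_ne_zero_iff] at hξ
    obtain ⟨h1, h2⟩ := hξ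
    simp only [Cyc.secDivFun] at h2
    split_ifs at h2 with hh
    · have : δ ξ = (m : ℤ) + 1 := by_contra fun hne => h1 (by simp [Cyc.sheafFun, hne])
      omega
    · exact absurd rfl h2
  obtain ⟨Ψ, hΨ⟩ := exists_sym_hom hδ hl hm ((m : ℤ) + 1)
  have h := congrArg Ψ (twist_eq hd hL hF s hs (lf_of_finite hfγ) hγk fun x _ => rfl)
  have hγn : ∀ x, (-γ) x ≠ 0 → δ x = (m : ℤ) := fun x hx => hγk x fun h => hx (by simp [h])
  rw [map_sub, map_sub, hΨ _ (cohLe_tensor hL hF), hΨ _ hF,
    hΨ _ (cohLe_of_le (by omega) (cohLe_pos (k := (m : ℤ)) hd (lf_of_finite hfγ) fun x hx => (hγk x hx.ne').le)),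
    Cyc.cycleSheafNeg,
    hΨ _ (cohLe_of_le (by omega) (cohLe_pos (k := (m : ℤ)) hd (lf_of_finite (by simpa using hfγ))
      fun x hx => (hγn x hx.ne').le))] at h
  rw [IntSym.sym_cons]
  exact h.trans (sym_pos_sub_neg hδ hl hm hfγ hγk)

/-- The Euler characteristic of a closed point. -/
theorem euler_point (hδ : Cyc.DeltaCompat (X ↘ Spec (CommRingCat.of K)) δ (fun _ => 0)) {x : X} (hx : δ x = 0) :
    IntSym.sym K [] (Cyc.closureStructureSheaf x) = ((X ↘ Spec (CommRingCat.of K)).residueDegree x : ℤ) := by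
  classical
  haveI := CurveCohLib.isNoetherian_of_proper (k := K) (X := X)
  have hd := (isSetup_over K hδ).2.2
  have hcl : IsClosed ({x} : Set X) := closure_subset_iff_isClosed.1 fun z hz => by
    refine (CycLib.eq_of_delta_le hd (specializes_iff_mem_closure.2 hz) ?_).symm
    rw [hx, delta_eq_rd K hδ]
    exact Int.natCast_nonneg _
  have hsupp : CohB1.support (Cyc.closureStructureSheaf x) ⊆ ({x} : Set X) := fun y hy => by
    have := specializes_iff_mem_closure.1 (nontrivial_closureStructureSheaf (not_subsingleton_iff_nontrivial.1 hy))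
    rwa [hcl.closure_eq] at this
  letI := fun y : X => CurveCohLib.stalkModuleK K (Cyc.closureStructureSheaf x) y
  have h := (CurveCohLib.euler_eq_sum_stalks (k := K) (isCoh_closureStructureSheaf x)
    (fun y hy => (hsupp hy : y = x) ▸ hcl) {x} (by simpa using hsupp)).1
  rw [show IntSym.sym K [] (Cyc.closureStructureSheaf x) = Curv2.euler K X (Cyc.closureStructureSheaf x) from rfl,
    h, Finset.sum_singleton]
  letI := (VarDim.resHom (X ↘ Spec (CommRingCat.of K)) x).toAlgebra
  rw [show (X ↘ Spec (CommRingCat.of K)).residueDegree x = Module.finrank K (X.residueField x) from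
    WeilLib.residueDegree_eq_finrank _ x]
  let e : (X.presheaf.stalk x ⧸ IsLocalRing.maximalIdeal (X.presheaf.stalk x)) ≃ₗ[X.presheaf.stalk x]
      (Cyc.closureStructureSheaf x).presheaf.stalk x :=
    Submodule.quotEquivOfEq _ _ (ker_specMap_refl x).symm ≪≫ₗ closureStalkEquiv (specializes_refl x)
  let e' : X.residueField x ≃ₗ[K] (Cyc.closureStructureSheaf x).presheaf.stalk x :=
    { toFun := fun z => e z
      invFun := fun m => e.symm m
      left_inv := fun z => e.symm_apply_apply z
      right_inv := fun m => e.apply_symm_apply m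
      map_add' := fun z w => map_add e z w
      map_smul' := fun c z => by
        obtain ⟨z, rfl⟩ := IsLocalRing.residue_surjective z
        exact e.map_smul (Curv2.stalkMap K X x c) (Ideal.Quotient.mk _ z) }
  rw [e'.finrank_eq]

end Groth.Agent.CycK
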