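import Groth.Agent.CycK.Sl
import Groth.Agent.QCoh.Tilde
import Groth.Agent.SheafHomX.Coherent
import Groth.Agent.QCoh.DevissageSum
import Groth.Agent.QCoh.SubCompare
import Mathlib.Algebra.Category.ModuleCat.Biproducts

/-! Locally finite families of modules and their coproducts. -/

set_option autoImplicit false
set_option linter.style.haveILetI false
set_option linter.unusedSectionVars false
set_option backward.isDefEq.respectTransparency false
set_option backward.isDefEq.respectTransparency.types false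

universe u

open CategoryTheory CategoryTheory.Limits AlgebraicGeometry TopologicalSpace Opposite

namespace Groth.Agent.CycK

variable {X : Scheme.{u}} {ι : Type u}

/-- The supports form a locally finite family. -/
def LFin (F : ι → X.Modules) : Prop :=
  ∀ x : X, ∃ U : X.Opens, x ∈ U ∧ {i | ∃ y ∈ U, Nontrivial ((F i).presheaf.stalk y)}.Finite

variable {F G : ι → X.Modules}

theorem LFin.of_imp (h : LFin F)
    (hs : ∀ i y, Nontrivial ((G i).presheaf.stalk y) → Nontrivial ((F i).presheaf.stalk y)) : LFin G := fun x =>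
  let ⟨U, hx, hU⟩ := h x
  ⟨U, hx, hU.subset fun i ⟨y, hy, hn⟩ => ⟨y, hy, hs i y hn⟩⟩

theorem LFin.comp (h : LFin F) {κ : Type u} {e : κ → ι} (he : Function.Injective e) : LFin (F ∘ e) := fun x =>
  let ⟨U, hx, hU⟩ := h x
  ⟨U, hx, (hU.preimage he.injOn).subset fun _ hk => hk⟩

theorem lfin_of_closure (ξ : ι → X)
    (hξ : ∀ x : X, ∃ U : Set X, IsOpen U ∧ x ∈ U ∧ {i | (closure {ξ i} ∩ U).Nonempty}.Finite)
    (h : ∀ i y, Nontrivial ((F i).presheaf.stalk y) → ξ i ⤳ y) : LFin F := fun x => by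
  obtain ⟨U, hU, hx, hfin⟩ := hξ x
  exact ⟨⟨U, hU⟩, hx, hfin.subset fun i ⟨y, hy, hn⟩ => ⟨y, specializes_iff_mem_closure.1 (h i y hn), hy⟩⟩

theorem LFin.exists_finset (h : LFin F) (y : X) :
    ∃ S : Finset ι, ∀ i ∉ S, Subsingleton ((F i).presheaf.stalk y) := by
  obtain ⟨U, hy, hU⟩ := h y
  refine ⟨hU.toFinset, fun i hi => not_nontrivial_iff_subsingleton.1 fun hn => hi ?_⟩
  exact hU.mem_toFinset.2 ⟨y, hy, hn⟩

theorem LFin.exists_finset_compact (h : LFin F) {K : Set X} (hK : IsCompact K) :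
    ∃ S : Finset ι, ∀ i ∉ S, ∀ y ∈ K, Subsingleton ((F i).presheaf.stalk y) := by
  classical
  choose U hU hfin using h
  obtain ⟨t, ht⟩ := hK.elim_finite_subcover (fun x => (U x : Set X)) (fun x => (U x).2)
    fun x _ => Set.mem_iUnion.2 ⟨x, hU x⟩
  refine ⟨t.biUnion fun x => (hfin x).toFinset, fun i hi y hy => not_nontrivial_iff_subsingleton.1 fun hn => hi ?_⟩
  obtain ⟨x, hx, hyx⟩ := Set.mem_iUnion₂.1 (ht hy)
  exact Finset.mem_biUnion.2 ⟨x, hx, (hfin x).mem_toFinset.2 ⟨y, hyx, hn⟩⟩

open Classical in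
/-- The projection of a coproduct onto one of its terms. -/
noncomputable def proj (F : ι → X.Modules) (i : ι) : ∐ F ⟶ F i :=
  Sigma.desc fun j => if h : j = i then eqToHom (by rw [h]) else 0

theorem ι_proj (F : ι → X.Modules) (i : ι) : Sigma.ι F i ≫ proj F i = 𝟙 _ := by
  simp [proj]

theorem ι_proj_ne (F : ι → X.Modules) {i j : ι} (h : j ≠ i) : Sigma.ι F j ≫ proj F i = 0 := by
  simp [proj, h]

theorem sl_proj_ι (F : ι → X.Modules) (i : ι) (y : X) (m : (F i).presheaf.stalk y) :
    sl (proj F i) y (sl (Sigma.ι F i) y m) = m := by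
  rw [← sl_comp_apply, ι_proj, sl_id]; rfl

theorem sl_proj_ι_ne (F : ι → X.Modules) {i j : ι} (h : j ≠ i) (y : X) (m : (F j).presheaf.stalk y) :
    sl (proj F i) y (sl (Sigma.ι F j) y m) = 0 := by
  rw [← sl_comp_apply, ι_proj_ne F h, sl_zero]; rfl

theorem sigma_hom_ext {y : X} {T : Type u} [AddCommGroup T] [Module (X.presheaf.stalk y) T]
    {f g : (∐ F).presheaf.stalk y →ₗ[X.presheaf.stalk y] T}
    (h : ∀ i, f ∘ₗ sl (Sigma.ι F i) y = g ∘ₗ sl (Sigma.ι F i) y) : f = g := by
  haveI : PreservesColimitsOfShape (Discrete ι) (DerSch.stalkFunctor X y) :=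
    (KFlatLib.skyAdj y).leftAdjoint_preservesColimits.preservesColimitsOfShape
  have hc := isColimitCofanMkObjOfIsColimit (DerSch.stalkFunctor X y) _ _ (coproductIsCoproduct F)
  exact congrArg ModuleCat.Hom.hom (Cofan.IsColimit.hom_ext hc (ModuleCat.ofHom (Y := T) f) (ModuleCat.ofHom (Y := T) g)
    fun i => ModuleCat.hom_ext (h i))

theorem sigma_total {y : X} {S : Finset ι} (hS : ∀ i ∉ S, Subsingleton ((F i).presheaf.stalk y))
    (m : (∐ F).presheaf.stalk y) : ∑ i ∈ S, sl (Sigma.ι F i) y (sl (proj F i) y m) = m := by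
  classical
  have : (∑ i ∈ S, sl (Sigma.ι F i) y ∘ₗ sl (proj F i) y) = LinearMap.id := by
    refine sigma_hom_ext fun j => LinearMap.ext fun a => ?_
    rw [LinearMap.comp_apply, LinearMap.sum_apply, LinearMap.comp_apply, LinearMap.id_apply]
    by_cases hj : j ∈ S
    · rw [Finset.sum_eq_single j (fun i _ hi => ?_) (fun h => absurd hj h), LinearMap.comp_apply, sl_proj_ι]
      rw [LinearMap.comp_apply, sl_proj_ι_ne F (Ne.symm hi), map_zero]
    · haveI := hS j hj
      rw [Subsingleton.elim a 0]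
      simp
  have := LinearMap.congr_fun this m
  rw [LinearMap.sum_apply] at this
  exact this

theorem sigma_eq_zero (h : LFin F) {y : X} {m : (∐ F).presheaf.stalk y} (hm : ∀ i, sl (proj F i) y m = 0) :
    m = 0 := by
  obtain ⟨S, hS⟩ := h.exists_finset y
  rw [← sigma_total hS m]
  exact Finset.sum_eq_zero fun i _ => by rw [hm i, map_zero]

/-- The stalk of a locally finite coproduct. -/
noncomputable def sigmaStalkEquiv {y : X} {S : Finset ι} (hS : ∀ i ∉ S, Subsingleton ((F i).presheaf.stalk y)) :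
    (∐ F).presheaf.stalk y ≃ₗ[X.presheaf.stalk y] (∀ i : S, (F i.1).presheaf.stalk y) :=
  LinearEquiv.ofBijective (LinearMap.pi fun i : S => sl (proj F i.1) y) (by
    classical
    refine ⟨(injective_iff_map_eq_zero _).2 fun m hm => ?_, fun v => ⟨∑ i : S, sl (Sigma.ι F i.1) y (v i), ?_⟩⟩
    · rw [← sigma_total hS m]
      exact Finset.sum_eq_zero fun i hi => by
        rw [show sl (proj F i) y m = 0 from congrFun hm ⟨i, hi⟩, map_zero]
    · funext j
      rw [LinearMap.pi_apply, map_sum, Finset.sum_eq_single j (fun i _ hi => ?_) (fun h => absurd (Finset.mem_univ j) h),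
        sl_proj_ι]
      exact sl_proj_ι_ne F (fun e => hi (Subtype.ext e)) y _)

theorem length_sigma {y : X} {S : Finset ι} (hS : ∀ i ∉ S, Subsingleton ((F i).presheaf.stalk y)) :
    Module.length (X.presheaf.stalk y) ((∐ F).presheaf.stalk y) =
      ∑ i ∈ S, Module.length (X.presheaf.stalk y) ((F i).presheaf.stalk y) := by
  rw [(sigmaStalkEquiv hS).length_eq, Module.length_pi_of_fintype,
    Finset.sum_coe_sort S fun i => Module.length (X.presheaf.stalk y) ((F i).presheaf.stalk y)]

theorem exists_nontrivial_of_sigma (h : LFin F) {y : X} (hy : Nontrivial ((∐ F).presheaf.stalk y)) :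
    ∃ i, Nontrivial ((F i).presheaf.stalk y) := by
  by_contra hc
  push Not at hc
  refine not_subsingleton_iff_nontrivial.2 hy (subsingleton_of_forall_eq 0 fun m => sigma_eq_zero h fun i => ?_)
  haveI : Subsingleton ((F i).presheaf.stalk y) := hc i
  exact Subsingleton.elim _ _

theorem sl_map_proj (φ : ∀ i, F i ⟶ G i) (i : ι) (y : X) (m : (∐ F).presheaf.stalk y) :
    sl (proj G i) y (sl (Limits.Sigma.map φ) y m) = sl (φ i) y (sl (proj F i) y m) := by
  rw [← sl_comp_apply, ← sl_comp_apply]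
  congr 2
  refine Sigma.hom_ext _ _ fun j => ?_
  rw [← Category.assoc, ← Category.assoc, Sigma.ι_map, Category.assoc]
  by_cases h : j = i
  · subst h; rw [ι_proj, ι_proj, Category.comp_id, Category.id_comp]
  · rw [ι_proj_ne G h, ι_proj_ne F h, comp_zero, zero_comp]

theorem injective_map (h : LFin F) (φ : ∀ i, F i ⟶ G i) {y : X} (hφ : ∀ i, Function.Injective (sl (φ i) y)) :
    Function.Injective (sl (Limits.Sigma.map φ) y) :=
  (injective_iff_map_eq_zero _).2 fun m hm => sigma_eq_zero h fun i =>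
    hφ i (by rw [← sl_map_proj, hm, map_zero, map_zero])

theorem surjective_map (h : LFin G) (φ : ∀ i, F i ⟶ G i) {y : X} (hφ : ∀ i, Function.Surjective (sl (φ i) y)) :
    Function.Surjective (sl (Limits.Sigma.map φ) y) := fun m => by
  obtain ⟨S, hS⟩ := h.exists_finset y
  choose a ha using fun i => hφ i (sl (proj G i) y m)
  refine ⟨∑ i ∈ S, sl (Sigma.ι F i) y (a i), ?_⟩
  rw [map_sum]
  refine (Finset.sum_congr rfl fun i _ => ?_).trans (sigma_total hS m)
  rw [← sl_comp_apply, Sigma.ι_map, sl_comp_apply, ha]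

/-- A coproduct reindexed along an injection, when the remaining terms vanish at the point. -/
theorem bijective_reindex (hF : LFin F) {κ : Type u} (e : κ → ι) (he : Function.Injective e) {y : X}
    (h0 : ∀ i ∉ Set.range e, Subsingleton ((F i).presheaf.stalk y)) :
    Function.Bijective (sl (Sigma.desc (fun k => Sigma.ι F (e k))) y) := by
  refine ⟨(injective_iff_map_eq_zero _).2 fun m hm => ?_, fun m => ?_⟩
  · refine sigma_eq_zero (hF.comp he) fun k => ?_
    have hk : Sigma.desc (fun k => Sigma.ι F (e k)) ≫ proj F (e k) = proj (F ∘ e) k := by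
      refine Sigma.hom_ext _ _ fun j => ?_
      rw [Sigma.ι_desc_assoc]
      by_cases h : j = k
      · subst h; rw [ι_proj]; exact (ι_proj (F ∘ e) j).symm
      · rw [ι_proj_ne F (fun x => h (he x))]; exact (ι_proj_ne (F ∘ e) h).symm
    show sl (proj (F ∘ e) k) y m = 0
    rw [← hk, sl_comp_apply]
    exact (congrArg (sl (proj F (e k)) y) hm).trans (map_zero _)
  · obtain ⟨S, hS⟩ := hF.exists_finset y
    refine LinearMap.mem_range.1 (sigma_total hS m ▸ Submodule.sum_mem _ fun i _ => ?_)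
    by_cases hi : i ∈ Set.range e
    · obtain ⟨k, rfl⟩ := hi
      exact ⟨sl (Sigma.ι (fun k => F (e k)) k) y (sl (proj F (e k)) y m), by
        rw [← sl_comp_apply, Sigma.ι_desc]⟩
    · haveI := h0 i hi
      rw [Subsingleton.elim (sl (proj F i) y m) 0, map_zero]
      exact Submodule.zero_mem _

theorem app_surjective_of_sl {M N : X.Modules} (hM : Coh.IsQCoh M) (hN : Coh.IsQCoh N) (φ : M ⟶ N)
    {V : X.Opens} (hV : IsAffineOpen V) (h : ∀ y ∈ V, Function.Surjective (sl φ y)) :
    Function.Surjective (φ.app V) := fun n => by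
  have h0 : (cokernel.π φ).app V n = 0 := by
    refine TopCat.Presheaf.section_ext (show TopCat.Sheaf AddCommGrpCat.{u} X.toPresheafedSpace.carrier
      from ⟨(cokernel φ).presheaf, (cokernel φ).isSheaf⟩) V _ 0 fun y hy => ?_
    haveI := subsingleton_cokernel φ (h y hy)
    exact Subsingleton.elim (α := (cokernel φ).presheaf.stalk y) _ _
  have hI : Coh.IsQCoh (Abelian.coimage φ) := QCoh.isQCoh_cokernel (QCoh.isQCoh_kernel hM hN φ) hM _
  have h0' : Abelian.factorThruCoimage φ ≫ cokernel.π φ = 0 := by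
    rw [← cancel_epi (Abelian.coimage.π φ), ← Category.assoc, Abelian.coimage.fac, cokernel.condition, comp_zero]
  let e : IsColimit (CokernelCofork.ofπ (cokernel.π φ) h0') :=
    CokernelCofork.IsColimit.ofπ' _ _ fun {A} g hg =>
      ⟨cokernel.desc φ g (by rw [← Abelian.coimage.fac φ, Category.assoc, hg, comp_zero]), cokernel.π_desc _ _ _⟩
  obtain ⟨w, hw⟩ := QCoh.exists_app_f_eq (S := ShortComplex.mk (Abelian.factorThruCoimage φ) (cokernel.π φ) h0')
    (.mk' (ShortComplex.exact_of_g_is_cokernel _ e) inferInstance inferInstance) V n h0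
  obtain ⟨m, rfl⟩ := QCoh.app_surjective_of_epi hM hI (Abelian.coimage.π φ) hV w
  exact ⟨m, (congr(($(Abelian.coimage.fac φ)).app V m) : _).symm.trans hw⟩

theorem isCoh_sigma [IsLocallyNoetherian X] (h : LFin F) (hF : ∀ i, Coh.IsCoh (F i)) : Coh.IsCoh (∐ F) := by
  have hq : Coh.IsQCoh (∐ F) := QCoh.isQCoh_colimit (Discrete.functor F) fun i => (hF i.as).1
  refine QCoh.isCoh_iff.2 ⟨hq, fun U => ?_⟩
  classical
  obtain ⟨S, hS⟩ := h.exists_finset_compact U.2.isCompact
  haveI : ∀ i, Module.Finite Γ(X, U.1) Γ(F i, U.1) := fun i => QCoh.finite_sections (hF i) U.2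
  let E : X.Modules := ∐ fun i : ↥(S : Set ι) => F i.1
  let d : E ⟶ ∐ F := Sigma.desc fun i => Sigma.ι F i.1
  have hqE : Coh.IsQCoh E := QCoh.isQCoh_colimit (Discrete.functor _) fun i => (hF i.as.1).1
  have hd : ∀ y ∈ U.1, Function.Surjective (sl d y) := fun y hy =>
    (bijective_reindex h (fun i : ↥(S : Set ι) => i.1) Subtype.val_injective fun i hi => hS i
      (fun hiS => hi ⟨⟨i, hiS⟩, rfl⟩) y hy).2
  have hsurj := app_surjective_of_sl hqE hq d U.2 hd
  haveI : Module.Finite Γ(X, U.1) Γ(E, U.1) := by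
    haveI := QCoh.hasFiniteBiproducts X
    haveI : Fintype ↥(S : Set ι) := FinsetCoe.fintype S
    have hE : Coh.IsCoh E :=
      SheafHomX.isCoh_of_iso (biproduct.isoCoproduct fun i : ↥(S : Set ι) => F i.1) (QCoh.isCoh_biproduct _ fun i => hF i.1)
    exact QCoh.finite_sections hE U.2
  exact Module.Finite.of_surjective (QCoh.appLin d U.1) hsurj

/-- Coproducts of short exact sequences. -/
theorem shortExact_sigma (S : ι → ShortComplex X.Modules) (hS : ∀ i, (S i).ShortExact)
    (h : LFin fun i => (S i).X₁) :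
    (ShortComplex.mk (Limits.Sigma.map fun i => (S i).f) (Limits.Sigma.map fun i => (S i).g)
      (by ext i; simp)).ShortExact := by
  haveI : Mono (Limits.Sigma.map fun i => (S i).f) := mono_of_sl _ fun y => injective_map h _ fun i => by
    haveI := (hS i).mono_f
    exact sl_injective _ y
  haveI : ∀ i, Epi (S i).g := fun i => (hS i).epi_g
  haveI : Epi (Limits.Sigma.map fun i => (S i).g) := ⟨fun a b hab => Sigma.hom_ext _ _ fun i => by
    have := congrArg (fun k => Sigma.ι (fun i => (S i).X₂) i ≫ k) hab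
    simp only [Sigma.ι_map_assoc] at this
    exact (cancel_epi (S i).g).1 this⟩
  refine .mk' (ShortComplex.exact_of_g_is_cokernel _ (CokernelCofork.IsColimit.ofπ' _ _ fun {A} k hk =>
    ⟨Sigma.desc fun i => (hS i).exact.desc (Sigma.ι (fun i => (S i).X₂) i ≫ k) (by
      have := congrArg (fun l => Sigma.ι (fun i => (S i).X₁) i ≫ l) hk
      simpa using this), ?_⟩)) ‹_› ‹_›
  refine Sigma.hom_ext _ _ fun i => ?_
  simp [(hS i).exact.g_desc]

end Groth.Agent.CycK
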