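import Groth.Prelude.Def_Tame
import Groth.Agent.IntThLib.Lattice
import Mathlib.RingTheory.Length

/-! Colengths of the two projections of a correspondence with slope `f`. -/

set_option autoImplicit false
set_option linter.style.haveILetI false

universe u

namespace Groth.Agent.CycK

variable {O A : Type u} [CommRing O] [CommRing A] [Algebra O A]

theorem length_quot_map {K M : Type u} [AddCommGroup K] [Module O K] [AddCommGroup M] [Module O M]
    (p : K →ₗ[O] M) (hp : Function.Injective p) (N : Submodule O K) :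
    Module.length O (M ⧸ N.map p) = Module.length O (K ⧸ N) + Module.length O (M ⧸ LinearMap.range p) := by
  have hle : N.map p ≤ LinearMap.range p := LinearMap.map_le_range
  refine Module.length_eq_add_of_exact (N.mapQ (N.map p) p fun x hx => ⟨x, hx, rfl⟩)
    (Submodule.factor hle) ?_ (Submodule.factor_surjective hle) ?_
  · refine LinearMap.ker_eq_bot.1 (LinearMap.ker_eq_bot'.2 fun z hz => ?_)
    obtain ⟨z, rfl⟩ := Submodule.Quotient.mk_surjective _ z
    rw [Submodule.mapQ_apply, Submodule.Quotient.mk_eq_zero] at hz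
    obtain ⟨w, hw, e⟩ := hz
    exact (Submodule.Quotient.mk_eq_zero _).2 (hp e ▸ hw)
  · intro m
    obtain ⟨m, rfl⟩ := Submodule.Quotient.mk_surjective _ m
    constructor
    · intro h
      rw [← Submodule.mkQ_apply, Submodule.factor_mk, Submodule.mkQ_apply, Submodule.Quotient.mk_eq_zero] at h
      obtain ⟨z, rfl⟩ := h
      exact ⟨Submodule.Quotient.mk z, rfl⟩
    · rintro ⟨z, hz⟩
      obtain ⟨z, rfl⟩ := Submodule.Quotient.mk_surjective _ z
      rw [← hz, Submodule.mapQ_apply, ← Submodule.mkQ_apply, Submodule.factor_mk, Submodule.mkQ_apply, Submodule.Quotient.mk_eq_zero]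
      exact ⟨z, rfl⟩

theorem length_quot_span (hs : Function.Surjective (algebraMap O A)) (x : A) :
    Module.length O (A ⧸ Submodule.span O ({x} : Set A)) = Ring.ord A x := by
  have h : Submodule.span O ({x} : Set A) = (Ideal.span ({x} : Set A)).restrictScalars O :=
    (Submodule.restrictScalars_span O A hs _).symm
  rw [(Submodule.quotEquivOfEq _ _ h).length_eq, (Submodule.Quotient.restrictScalarsEquiv O _).length_eq,
    Ring.ord, Module.length_eq_of_surjective (S := O) (R := A) hs]

variable [IsDomain A] [IsNoetherianRing A] [Ring.KrullDimLE 1 A] {F : Type u} [Field F] [Algebra A F]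
  [IsFractionRing A F]

theorem length_graph_eq_ord (hs : Function.Surjective (algebraMap O A)) {K : Type u} [AddCommGroup K] [Module O K]
    (p q : K →ₗ[O] A) (hp : Function.Injective p) (hq : Function.Injective q) [Nontrivial K] {f : F}
    (hf : f ≠ 0) (h : ∀ z, algebraMap A F (q z) = f * algebraMap A F (p z)) :
    Module.length O (A ⧸ LinearMap.range p) ≠ ⊤ ∧ Module.length O (A ⧸ LinearMap.range q) ≠ ⊤ ∧
      ((Module.length O (A ⧸ LinearMap.range q)).toNat : ℤ) -
        ((Module.length O (A ⧸ LinearMap.range p)).toNat : ℤ) = CycAlg.ordFrac A F f := by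
  obtain ⟨z0, hz0⟩ := exists_ne (0 : K)
  obtain ⟨u, v, hv, rfl⟩ := IsFractionRing.div_surjective A f
  have hv0 : v ≠ 0 := nonZeroDivisors.ne_zero hv
  have hu0 : u ≠ 0 := fun e => hf (by rw [e, map_zero, zero_div])
  obtain ⟨r, rfl⟩ := hs v
  set c := p z0
  have hc : c ≠ 0 := fun e => hz0 (hp (by rw [map_zero]; exact e))
  have hp1 : p (r • z0) = algebraMap O A r * c := by rw [map_smul, Algebra.smul_def]
  have hq1 : q (r • z0) = u * c := by
    apply IsFractionRing.injective A F
    rw [h, hp1, map_mul, map_mul]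
    have : algebraMap A F (algebraMap O A r) ≠ 0 := (map_ne_zero_iff _ (IsFractionRing.injective A F)).2 hv0
    field_simp
  have e1 := length_quot_map p hp (Submodule.span O {r • z0})
  have e2 := length_quot_map q hq (Submodule.span O {r • z0})
  rw [Submodule.map_span, Set.image_singleton, hp1, length_quot_span hs] at e1
  rw [Submodule.map_span, Set.image_singleton, hq1, length_quot_span hs] at e2
  have t1 : Ring.ord A (algebraMap O A r * c) ≠ ⊤ :=
    Ring.ord_ne_top (mem_nonZeroDivisors_of_ne_zero (mul_ne_zero hv0 hc))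
  have t2 : Ring.ord A (u * c) ≠ ⊤ := Ring.ord_ne_top (mem_nonZeroDivisors_of_ne_zero (mul_ne_zero hu0 hc))
  have f1 := e1 ▸ t1
  have f2 := e2 ▸ t2
  replace f1 := WithTop.add_ne_top.1 f1
  replace f2 := WithTop.add_ne_top.1 f2
  refine ⟨f1.2, f2.2, ?_⟩
  have n1 := congrArg ENat.toNat e1
  have n2 := congrArg ENat.toNat e2
  rw [ENat.toNat_add f1.1 f1.2] at n1
  rw [ENat.toNat_add f2.1 f2.2] at n2
  have o1 : CycAlg.ordFrac A F (algebraMap A F (algebraMap O A r * c)) = _ := IntThLib.ordFrac_algebraMap (mul_ne_zero hv0 hc)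
  have o2 : CycAlg.ordFrac A F (algebraMap A F (u * c)) = _ := IntThLib.ordFrac_algebraMap (mul_ne_zero hu0 hc)
  have e : algebraMap A F (u * c) =
      (algebraMap A F u / algebraMap A F (algebraMap O A r)) * algebraMap A F (algebraMap O A r * c) := by
    rw [← hq1, h, hp1]
  rw [e, IntThLib.ordFrac_mul hf ((map_ne_zero_iff _ (IsFractionRing.injective A F)).2 (mul_ne_zero hv0 hc)), o1, n1, n2] at o2
  push_cast at o2
  linarith

end Groth.Agent.CycK
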