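import Groth.Agent.CycK.Sl
import Groth.Agent.KFlatLib.Scheme.PullTensor
import Groth.Agent.QCoh.TensorSections
import Groth.Agent.H23.RatSec

/-! The stalkwise pairing into a tensor product. -/

set_option autoImplicit false
set_option linter.style.haveILetI false
set_option linter.unusedSectionVars false
set_option backward.isDefEq.respectTransparency false
set_option backward.isDefEq.respectTransparency.types false

universe u

open CategoryTheory CategoryTheory.Limits AlgebraicGeometry TopologicalSpace Opposite MonoidalCategory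
open scoped TensorProduct

namespace Groth.Agent.CycK

variable {X : Scheme.{u}} (M L : X.Modules)

/-- The pairing of stalks. -/
noncomputable def pr (y : X) : M.presheaf.stalk y →ₗ[X.presheaf.stalk y] L.presheaf.stalk y →ₗ[X.presheaf.stalk y]
    (CohB1.tensorMod M L).presheaf.stalk y :=
  TensorProduct.curry (KFlatLib.stalkTensorIso y M L).toLinearEquiv.toLinearMap

theorem pr_germ {y : X} (U : X.Opens) (hy : y ∈ U) (s : Γ(M, U)) (t : Γ(L, U)) :
    pr M L y (M.presheaf.germ U y hy s) (L.presheaf.germ U y hy t) =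
      (CohB1.tensorMod M L).presheaf.germ U y hy (QCoh.tmS M L s t) :=
  KFlatLib.stalkTensorIso_gm M L U hy s t

theorem pr_spec {x y : X} (h : x ⤳ y) (m : M.presheaf.stalk y) (t : L.presheaf.stalk y) :
    (CohB1.tensorMod M L).presheaf.stalkSpecializes h (pr M L y m t) =
      pr M L x (M.presheaf.stalkSpecializes h m) (L.presheaf.stalkSpecializes h t) := by
  obtain ⟨U, hyU, s, rfl⟩ := M.presheaf.exists_germ_eq (x := y) m
  obtain ⟨V, hyV, t, rfl⟩ := L.presheaf.exists_germ_eq (x := y) t
  have hy : y ∈ U ⊓ V := ⟨hyU, hyV⟩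
  rw [← TopCat.Presheaf.germ_res_apply (F := M.presheaf) (homOfLE (inf_le_left : U ⊓ V ≤ U)) y hy s,
    ← TopCat.Presheaf.germ_res_apply (F := L.presheaf) (homOfLE (inf_le_right : U ⊓ V ≤ V)) y hy t, pr_germ,
    TopCat.Presheaf.germ_stalkSpecializes_apply, TopCat.Presheaf.germ_stalkSpecializes_apply,
    TopCat.Presheaf.germ_stalkSpecializes_apply, pr_germ]

variable {M L}

theorem bijective_pr {y : X} {t : L.presheaf.stalk y} (ht : H23.RatSec.IsGen t) :
    Function.Bijective fun m => pr M L y m t := by
  let e : X.presheaf.stalk y ≃ₗ[X.presheaf.stalk y] L.presheaf.stalk y :=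
    LinearEquiv.ofBijective (LinearMap.toSpanSingleton _ _ t)
      ⟨(injective_iff_map_eq_zero _).2 ht.2, fun m => Submodule.mem_span_singleton.1 (ht.1.ge trivial)⟩
  let E : M.presheaf.stalk y ≃ₗ[X.presheaf.stalk y] (CohB1.tensorMod M L).presheaf.stalk y :=
    (TensorProduct.rid _ _).symm ≪≫ₗ TensorProduct.congr (LinearEquiv.refl _ _) e ≪≫ₗ
      (KFlatLib.stalkTensorIso y M L).toLinearEquiv
  have : (fun m => pr M L y m t) = E := funext fun m => by
    show pr M L y m t = pr M L y m ((1 : X.presheaf.stalk y) • t)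
    rw [one_smul]
  rw [this]
  exact E.bijective

/-- The stalk of the twist, given a generator. -/
noncomputable def prEquiv {y : X} {t : L.presheaf.stalk y} (ht : H23.RatSec.IsGen t) :
    M.presheaf.stalk y ≃ₗ[X.presheaf.stalk y] (CohB1.tensorMod M L).presheaf.stalk y :=
  LinearEquiv.ofBijective ((pr M L y).flip t) (bijective_pr ht)

theorem nontrivial_tensor_iff (hL : PicF.IsInvertible L) (y : X) :
    Nontrivial ((CohB1.tensorMod M L).presheaf.stalk y) ↔ Nontrivial (M.presheaf.stalk y) := by
  obtain ⟨t, ht, -⟩ := H23.RatSec.exists_gen hL y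
  exact ⟨fun _ => (prEquiv (M := M) ht).symm.injective.nontrivial, fun _ => (prEquiv (M := M) ht).injective.nontrivial⟩

theorem length_tensor (hL : PicF.IsInvertible L) (y : X) :
    Module.length (X.presheaf.stalk y) ((CohB1.tensorMod M L).presheaf.stalk y) =
      Module.length (X.presheaf.stalk y) (M.presheaf.stalk y) := by
  obtain ⟨t, ht, -⟩ := H23.RatSec.exists_gen hL y
  exact (prEquiv (M := M) ht).length_eq.symm

end Groth.Agent.CycK
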