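import Groth.Agent.CycK.Class
import Groth.Agent.CycK.Ord
import Groth.Agent.CycK.Tw
import Groth.Agent.AmpleVan.Vanish
import Groth.Agent.QCoh.Support

/-! Twisting the closures of a family of points by an invertible module. -/

set_option autoImplicit false
set_option linter.style.haveILetI false
set_option linter.unusedSectionVars false
set_option backward.isDefEq.respectTransparency false
set_option backward.isDefEq.respectTransparency.types false

universe u

open CategoryTheory CategoryTheory.Limits AlgebraicGeometry TopologicalSpace Opposite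

namespace Groth.Agent.CycK

variable {X : Scheme.{u}} [IsLocallyNoetherian X] {δ : X → ℤ} {k : ℤ}

theorem toNat_sum {ι : Type*} (S : Finset ι) (f : ι → ℕ∞) (h : ∀ i ∈ S, f i ≠ ⊤) :
    ((∑ i ∈ S, f i).toNat : ℤ) = ∑ i ∈ S, ((f i).toNat : ℤ) := by
  rw [show (∑ i ∈ S, f i) = ((∑ i ∈ S, (f i).toNat : ℕ) : ℕ∞) by
    push_cast
    exact Finset.sum_congr rfl fun i hi => (ENat.natCast_toNat (h i hi)).symm, ENat.toNat_coe]
  push_cast; rfl

/-- The correspondence at one point. -/
theorem exists_twist_graph (hd : Cyc.IsDimFun X δ) {L : X.Modules} (hL : PicF.IsInvertible L) {ξ : X}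
    (hξ : δ ξ = k + 1) (s : Cyc.secFibre L ξ) (hs : s ≠ 0) :
    ∃ (K : X.Modules) (p : K ⟶ Cyc.closureStructureSheaf ξ)
      (q : K ⟶ CohB1.tensorMod (Cyc.closureStructureSheaf ξ) L),
      Cyc.CohLe δ (k + 1) K ∧ (∀ y, Nontrivial (K.presheaf.stalk y) → ξ ⤳ y) ∧
      (∀ y, k ≤ δ y → Function.Injective (sl p y) ∧ Function.Injective (sl q y)) ∧
      (∀ y, k < δ y → Function.Surjective (sl p y) ∧ Function.Surjective (sl q y)) ∧
      ∀ y, δ y = k →
        Module.length (X.presheaf.stalk y) ((cokernel p).presheaf.stalk y) ≠ ⊤ ∧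
        Module.length (X.presheaf.stalk y) ((cokernel q).presheaf.stalk y) ≠ ⊤ ∧
        ((Module.length (X.presheaf.stalk y) ((cokernel q).presheaf.stalk y)).toNat : ℤ) -
          ((Module.length (X.presheaf.stalk y) ((cokernel p).presheaf.stalk y)).toNat : ℤ) =
            Cyc.secDivFun δ L ξ s y := by
  obtain ⟨st, rfl⟩ := Submodule.Quotient.mk_surjective _ s
  set P := Cyc.closureStructureSheaf ξ
  set R := CohB1.tensorMod P L
  have hP : Cyc.CohLe δ (k + 1) P := cohLe_closureStructureSheaf hd hξ.le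
  have hR : Cyc.CohLe δ (k + 1) R := ⟨AmpleVan.isCoh_tensor hP.1 (AmpleVan.isCoh_invertible hL),
    fun y hy => hP.2 y ((nontrivial_tensor_iff hL y).1 hy)⟩
  have hsR : ∀ y, Nontrivial (R.presheaf.stalk y) → ξ ⤳ y := fun y hy =>
    nontrivial_closureStructureSheaf ((nontrivial_tensor_iff hL y).1 hy)
  obtain ⟨K, p, q, hK, hKs, hj, hp, hq⟩ := exists_graph hd hP hR hξ.ge
    (fun y => nontrivial_closureStructureSheaf) hsR ((pr P L ξ).flip st)
  have hst : H23.RatSec.IsGen st := by
    obtain ⟨t, ht, -⟩ := H23.RatSec.exists_gen hL ξ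
    obtain ⟨c, rfl⟩ := Submodule.mem_span_singleton.1 (ht.1.ge (Submodule.mem_top : st ∈ ⊤))
    refine ht.smul_unit (by_contra fun hc => hs ?_)
    exact (Submodule.Quotient.mk_eq_zero _).2
      (Submodule.smul_mem_smul ((IsLocalRing.mem_maximalIdeal _).2 hc) trivial)
  have hqb : Function.Bijective (sl q ξ) := by
    rw [show ⇑(sl q ξ) = (fun m => pr P L ξ m st) ∘ sl p ξ from funext hq]
    exact (bijective_pr hst).comp hp
  have hzero : ∀ y, k ≤ δ y → y ≠ ξ → δ y ≠ k → Subsingleton (K.presheaf.stalk y) ∧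
      Subsingleton (P.presheaf.stalk y) ∧ Subsingleton (R.presheaf.stalk y) := fun y hy hne hk => by
    have hP0 := subsingleton_of_delta hd hne (show δ ξ ≤ δ y by omega)
    refine ⟨not_nontrivial_iff_subsingleton.1 fun hn => hne
      (CycLib.eq_of_delta_le hd (hKs y hn) (show δ ξ ≤ δ y by omega)).symm, hP0,
      not_nontrivial_iff_subsingleton.1 fun hn => not_subsingleton_iff_nontrivial.2 ((nontrivial_tensor_iff hL y).1 hn) hP0⟩
  have hcase : ∀ y, δ y = k → ¬ ξ ⤳ y →
      Subsingleton (K.presheaf.stalk y) ∧ Subsingleton (P.presheaf.stalk y) ∧ Subsingleton (R.presheaf.stalk y) :=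
    fun y _ hsp => ⟨not_nontrivial_iff_subsingleton.1 fun hn => hsp (hKs y hn),
      not_nontrivial_iff_subsingleton.1 fun hn => hsp (nontrivial_closureStructureSheaf hn),
      not_nontrivial_iff_subsingleton.1 fun hn => hsp (hsR y hn)⟩
  have main : ∀ y, δ y = k → ξ ⤳ y → (Function.Injective (sl p y) ∧ Function.Injective (sl q y)) ∧
      (Module.length (X.presheaf.stalk y) ((cokernel p).presheaf.stalk y) ≠ ⊤ ∧
      Module.length (X.presheaf.stalk y) ((cokernel q).presheaf.stalk y) ≠ ⊤ ∧
      ((Module.length (X.presheaf.stalk y) ((cokernel q).presheaf.stalk y)).toNat : ℤ) -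
        ((Module.length (X.presheaf.stalk y) ((cokernel p).presheaf.stalk y)).toNat : ℤ) =
          Cyc.secDivFun δ L ξ (Submodule.Quotient.mk st) y) := by
    intro y hy h
    obtain ⟨t, ht, ht'⟩ := H23.RatSec.exists_gen hL y
    obtain ⟨φ, hφ⟩ := Submodule.mem_span_singleton.1 ((ht' ξ h).1.ge (Submodule.mem_top : st ∈ ⊤))
    have hs' : (Submodule.Quotient.mk st : Cyc.secFibre L ξ) =
        φ • H23.RatSec.cls L ξ (L.presheaf.stalkSpecializes h t) := by rw [← hφ]; rfl
    have hφ0 : X.residue ξ φ ≠ 0 := (H23.RatSec.residue_ne_zero (ht' ξ h)).2 (hs' ▸ hs)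
    let eP := (closureStalkEquiv h).symm
    let eR := (prEquiv (M := P) ht).symm ≪≫ₗ eP
    let pb := eP.toLinearMap ∘ₗ sl p y
    let qb := eR.toLinearMap ∘ₗ sl q y
    have hrel : ∀ z, algebraMap _ (X.residueField ξ) (qb z) =
        X.residue ξ φ * algebraMap _ (X.residueField ξ) (pb z) := fun z => by
      obtain ⟨a, ha⟩ := Ideal.Quotient.mk_surjective (pb z)
      obtain ⟨b, hb⟩ := Ideal.Quotient.mk_surjective (qb z)
      have hpz : sl p y z = a • one ξ y := by
        rw [← closureStalkEquiv_mk h, ha]; exact ((closureStalkEquiv h).apply_symm_apply _).symm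
      have hqz : sl q y z = pr P L y (b • one ξ y) t := by
        rw [← closureStalkEquiv_mk h, hb]
        exact ((prEquiv (M := P) ht).apply_symm_apply _).symm.trans (congrArg (fun m => pr P L y m t)
          ((closureStalkEquiv h).apply_symm_apply _).symm)
      have h1 := hq (K.presheaf.stalkSpecializes h z)
      rw [← sl_spec, ← sl_spec, hpz, hqz, pr_spec, H23.ZeroSec.stalkSpecializes_smul,
        H23.ZeroSec.stalkSpecializes_smul, spec_one, LinearMap.flip_apply, ← hφ, map_smul] at h1
      rw [map_smul, LinearMap.smul_apply, map_smul, LinearMap.smul_apply, smul_smul, ← sub_eq_zero, ← sub_smul] at h1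
      have h2 : ((X.presheaf.stalkSpecializes h) b - φ * (X.presheaf.stalkSpecializes h) a) • one ξ ξ = 0 :=
        (bijective_pr (M := P) (ht' ξ h)).1 (by
          show pr P L ξ _ _ = pr P L ξ 0 _
          rw [map_smul, LinearMap.smul_apply, map_zero, LinearMap.zero_apply]
          exact h1)
      rw [smul_one_eq_zero_iff (specializes_refl ξ), ker_specMap_refl] at h2
      rw [← ha, ← hb, CycLib.algebraMap_locQuot_mk, CycLib.algebraMap_locQuot_mk]
      show X.residue ξ (X.presheaf.stalkSpecializes h b) = X.residue ξ φ * X.residue ξ (X.presheaf.stalkSpecializes h a)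
      rw [← map_mul]
      exact Ideal.Quotient.eq.2 h2
    have hpb : Function.Injective pb := (injective_iff_map_eq_zero _).2 fun z hz => by
      have h2 := hrel z
      rw [hz, map_zero, mul_zero] at h2
      have hqz : qb z = 0 := IsFractionRing.injective _ (X.residueField ξ) (h2.trans (map_zero _).symm)
      exact hj y z (eP.injective (hz.trans (map_zero _).symm)) (eR.injective (hqz.trans (map_zero _).symm))
    have hqb' : Function.Injective qb := (injective_iff_map_eq_zero _).2 fun z hz => by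
      have h2 := hrel z
      rw [hz, map_zero, eq_comm, mul_eq_zero] at h2
      have hpz : pb z = 0 := IsFractionRing.injective _ (X.residueField ξ)
        ((h2.resolve_left hφ0).trans (map_zero _).symm)
      exact hpb (hpz.trans (map_zero _).symm)
    haveI : Nontrivial (K.presheaf.stalk y) := not_subsingleton_iff_nontrivial.1 <| by
      have hne : Nontrivial (P.presheaf.stalk ξ) := not_subsingleton_iff_nontrivial.1 fun hh => by
        have := length_self ξ
        rw [Module.length_eq_zero_iff.2 hh] at this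
        exact zero_ne_one this
      exact QCoh.stableUnderSpecialization_support hK.1.1 h
        (not_subsingleton_iff_nontrivial.2 (hp.2.nontrivial : Nontrivial (K.presheaf.stalk ξ)))
    haveI := CycLib.krullDimLE_locQuot hd h (show δ y + 1 = δ ξ by omega)
    obtain ⟨l1, l2, l3⟩ := length_graph_eq_ord (O := X.presheaf.stalk y) (A := Cyc.LocQuot y ξ h)
      (F := X.residueField ξ) Ideal.Quotient.mk_surjective pb qb hpb hqb' hφ0 hrel
    have c1 : Module.length (X.presheaf.stalk y) ((cokernel p).presheaf.stalk y) =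
        Module.length (X.presheaf.stalk y) (Cyc.LocQuot y ξ h ⧸ LinearMap.range pb) := by
      rw [← (cokerEquiv p y).length_eq]
      exact (Submodule.Quotient.equiv _ _ eP (by rw [LinearMap.range_comp])).length_eq
    have c2 : Module.length (X.presheaf.stalk y) ((cokernel q).presheaf.stalk y) =
        Module.length (X.presheaf.stalk y) (Cyc.LocQuot y ξ h ⧸ LinearMap.range qb) := by
      rw [← (cokerEquiv q y).length_eq]
      exact (Submodule.Quotient.equiv _ _ eR (by rw [LinearMap.range_comp])).length_eq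
    refine ⟨⟨Function.Injective.of_comp (f := eP) hpb, Function.Injective.of_comp (f := eR) hqb'⟩,
      c1 ▸ l1, c2 ▸ l2, ?_⟩
    rw [c1, c2, l3, H23.RatSec.secDivFun_eq hL hd h ht.1 hs' hφ0, CycLib.divFun_eq δ _ h (by omega)]
    rfl
  refine ⟨K, p, q, hK, hKs, fun y hy => ?_, fun y hy => ?_, fun y hy => ?_⟩
  · by_cases hne : y = ξ
    · subst hne; exact ⟨hp.1, hqb.1⟩
    · by_cases hyk : δ y = k
      · by_cases hsp : ξ ⤳ y
        · exact (main y hyk hsp).1
        · obtain ⟨_, -, -⟩ := hcase y hyk hsp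
          exact ⟨fun _ _ _ => Subsingleton.elim _ _, fun _ _ _ => Subsingleton.elim _ _⟩
      · obtain ⟨_, -, -⟩ := hzero y hy hne hyk
        exact ⟨fun _ _ _ => Subsingleton.elim _ _, fun _ _ _ => Subsingleton.elim _ _⟩
  · by_cases hne : y = ξ
    · subst hne; exact ⟨hp.2, hqb.2⟩
    · obtain ⟨-, _, _⟩ := hzero y hy.le hne hy.ne'
      exact ⟨fun z => ⟨0, Subsingleton.elim _ _⟩, fun z => ⟨0, Subsingleton.elim _ _⟩⟩
  · by_cases hsp : ξ ⤳ y
    · exact (main y hy hsp).2
    · obtain ⟨-, _, _⟩ := hcase y hy hsp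
      haveI := subsingleton_cokernel p (x := y) fun z => ⟨0, Subsingleton.elim _ _⟩
      haveI := subsingleton_cokernel q (x := y) fun z => ⟨0, Subsingleton.elim _ _⟩
      rw [Module.length_eq_zero_iff.2 ‹Subsingleton ((cokernel p).presheaf.stalk y)›,
        Module.length_eq_zero_iff.2 ‹Subsingleton ((cokernel q).presheaf.stalk y)›]
      refine ⟨ENat.zero_ne_top, ENat.zero_ne_top, ?_⟩
      rw [Cyc.secDivFun, dif_neg fun hh => hsp hh.1]
      simp

/-- **Twisting a family of closures by an invertible module.** -/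
theorem graph_family (hd : Cyc.IsDimFun X δ) {ι : Type u} (ξ : ι → X)
    (hlf : ∀ x : X, ∃ U : Set X, IsOpen U ∧ x ∈ U ∧ {i | (closure {ξ i} ∩ U).Nonempty}.Finite)
    (hξ : ∀ i, δ (ξ i) = k + 1) {L : X.Modules} (hL : PicF.IsInvertible L)
    (s : ∀ i, Cyc.secFibre L (ξ i)) (hs : ∀ i, s i ≠ 0) {γ : X → ℤ} (hlγ : LF γ)
    (hγk : ∀ x, γ x ≠ 0 → δ x = k) (hγ : ∀ x, δ x = k → γ x = ∑ᶠ i, Cyc.secDivFun δ L (ξ i) (s i) x) :
    Cyc.toK0CohQuot δ (k + 1) (k - 1) (∐ fun i => CohB1.tensorMod (Cyc.closureStructureSheaf (ξ i)) L) -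
      Cyc.toK0CohQuot δ (k + 1) (k - 1) (∐ fun i => Cyc.closureStructureSheaf (ξ i)) =
    Cyc.toK0CohQuot δ (k + 1) (k - 1) (Cyc.cycleSheafPos γ) -
      Cyc.toK0CohQuot δ (k + 1) (k - 1) (Cyc.cycleSheafNeg γ) := by
  classical
  choose K p q hK hKs hinj hsurj hlen using fun i => exists_twist_graph hd hL (hξ i) (s i) (hs i)
  have hP : ∀ i, Cyc.CohLe δ (k + 1) (Cyc.closureStructureSheaf (ξ i)) := fun i =>
    cohLe_closureStructureSheaf hd (hξ i).le
  have hR : ∀ i, Cyc.CohLe δ (k + 1) (CohB1.tensorMod (Cyc.closureStructureSheaf (ξ i)) L) := fun i =>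
    ⟨AmpleVan.isCoh_tensor (hP i).1 (AmpleVan.isCoh_invertible hL),
      fun y hy => (hP i).2 y ((nontrivial_tensor_iff hL y).1 hy)⟩
  have hlK : LFin K := lfin_of_closure ξ hlf hKs
  have hlP : LFin fun i => Cyc.closureStructureSheaf (ξ i) :=
    lfin_of_closure ξ hlf fun i y => nontrivial_closureStructureSheaf
  have hlR : LFin fun i => CohB1.tensorMod (Cyc.closureStructureSheaf (ξ i)) L :=
    lfin_of_closure ξ hlf fun i y hy => nontrivial_closureStructureSheaf ((nontrivial_tensor_iff hL y).1 hy)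
  have e₁ := fam_map (b := k - 1) p hlK hlP hK hP
  have e₂ := fam_map (b := k - 1) q hlK hlR hK hR
  have hk1 : ∀ (r : ∀ i, K i ⟶ Cyc.closureStructureSheaf (ξ i)), (∀ i y, k ≤ δ y → Function.Injective (sl (r i) y)) →
      Cyc.toK0CohQuot δ (k + 1) (k - 1) (∐ fun i => kernel (r i)) = 0 := fun r hr => by
    refine eq_zero_of_small (cohLe_sigma (hlK.of_imp fun i y => nontrivial_of_injective (kernel.ι (r i)))
      fun i => ⟨(cohLe_kernel (r i) (hK i) (hP i).1).1, fun y hy => ?_⟩)
    by_contra hc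
    exact not_subsingleton_iff_nontrivial.2 hy (subsingleton_kernel (r i) (hr i y (by omega)))
  have hk2 : Cyc.toK0CohQuot δ (k + 1) (k - 1) (∐ fun i => kernel (q i)) = 0 := by
    refine eq_zero_of_small (cohLe_sigma (hlK.of_imp fun i y => nontrivial_of_injective (kernel.ι (q i)))
      fun i => ⟨(cohLe_kernel (q i) (hK i) (hR i).1).1, fun y hy => ?_⟩)
    by_contra hc
    exact not_subsingleton_iff_nontrivial.2 hy (subsingleton_kernel (q i) (hinj i y (by omega)).2)
  rw [hk1 p fun i y hy => (hinj i y hy).1, sub_zero] at e₁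
  rw [hk2, sub_zero] at e₂
  have hlp : LFin fun i => cokernel (p i) := hlP.of_imp fun i y => nontrivial_of_surjective (cokernel.π (p i))
  have hlq : LFin fun i => cokernel (q i) := hlR.of_imp fun i y => nontrivial_of_surjective (cokernel.π (q i))
  have hCp : Cyc.CohLe δ k (∐ fun i => cokernel (p i)) := cohLe_sigma hlp fun i =>
    ⟨(cohLe_cokernel (p i) (hK i).1 (hP i)).1, fun y hy => not_lt.1 fun hc =>
      not_subsingleton_iff_nontrivial.2 hy (subsingleton_cokernel (p i) (hsurj i y hc).1)⟩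
  have hCq : Cyc.CohLe δ k (∐ fun i => cokernel (q i)) := cohLe_sigma hlq fun i =>
    ⟨(cohLe_cokernel (q i) (hK i).1 (hR i)).1, fun y hy => not_lt.1 fun hc =>
      not_subsingleton_iff_nontrivial.2 hy (subsingleton_cokernel (q i) (hsurj i y hc).2)⟩
  rw [← class_sub hd hCq hCp (by omega) le_rfl hlγ hγk fun y hy => ?_, ← e₁, ← e₂]
  · abel
  obtain ⟨U, hU, hyU, hfin⟩ := hlf y
  have hout : ∀ i ∉ hfin.toFinset, ¬ ξ i ⤳ y := fun i hi h =>
    hi (hfin.mem_toFinset.2 ⟨y, specializes_iff_mem_closure.1 h, hyU⟩)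
  have h1 : ∀ i ∉ hfin.toFinset, Subsingleton ((cokernel (p i)).presheaf.stalk y) := fun i hi =>
    not_nontrivial_iff_subsingleton.1 fun hn => hout i hi
      (nontrivial_closureStructureSheaf (nontrivial_of_surjective (cokernel.π (p i)) hn))
  have h2 : ∀ i ∉ hfin.toFinset, Subsingleton ((cokernel (q i)).presheaf.stalk y) := fun i hi =>
    not_nontrivial_iff_subsingleton.1 fun hn => hout i hi
      (nontrivial_closureStructureSheaf ((nontrivial_tensor_iff hL y).1 (nontrivial_of_surjective (cokernel.π (q i)) hn)))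
  simp only [Cyc.sheafFun, if_pos hy, length_sigma h1, length_sigma h2]
  rw [toNat_sum _ _ fun i _ => (hlen i y hy).1, toNat_sum _ _ fun i _ => (hlen i y hy).2.1, ← Finset.sum_sub_distrib,
    hγ y hy, finsum_eq_sum_of_support_subset _ (s := hfin.toFinset) fun i hi => by
      by_contra hc
      exact hi (show Cyc.secDivFun δ L (ξ i) (s i) y = 0 from dif_neg fun hh => hout i hc hh.1)]
  exact Finset.sum_congr rfl fun i _ => (hlen i y hy).2.2

end Groth.Agent.CycK
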