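import Groth.Agent.CycK.Quot
import Groth.Agent.KZ.Devissage
import Groth.Agent.QCoh.SubCompare
import Mathlib.CategoryTheory.Abelian.CommSq

/-! Dévissage of `K₀` along locally finite filtrations. -/

set_option autoImplicit false
set_option linter.style.haveILetI false
set_option linter.unusedSectionVars false
set_option backward.isDefEq.respectTransparency false
set_option backward.isDefEq.respectTransparency.types false

universe u

open CategoryTheory CategoryTheory.Limits AlgebraicGeometry TopologicalSpace Opposite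

namespace Groth.Agent.CycK.LFDev

variable {X : Scheme.{u}} [IsLocallyNoetherian X]

/-- A class of coherent modules closed under coherent subobjects, quotients, and locally finite sums. -/
structure Cls (Q : ObjectProperty X.Modules) : Prop where
  coh : ∀ {M}, Q M → Coh.IsCoh M
  sub : ∀ {A B : X.Modules} (φ : A ⟶ B) [Mono φ], Coh.IsCoh A → Q B → Q A
  quot : ∀ {A B : X.Modules} (φ : A ⟶ B) [Epi φ], Coh.IsCoh B → Q A → Q B
  sigma : ∀ {ι : Type u} {F : ι → X.Modules}, LFin F → (∀ i, Q (F i)) → Q (∐ F)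
  zero : ∀ {Z : X.Modules}, IsZero Z → Q Z

variable {Q : ObjectProperty X.Modules} {ι : Type u}

theorem Cls.of_iso (hQ : Cls Q) {A B : X.Modules} (e : A ≅ B) (h : Q A) : Q B :=
  hQ.quot e.hom (SheafHomX.isCoh_of_iso e (hQ.coh h)) h

theorem Cls.coker (hQ : Cls Q) {A B : X.Modules} (φ : A ⟶ B) (hA : Coh.IsCoh A) (h : Q B) : Q (cokernel φ) :=
  hQ.quot (cokernel.π φ) (QCoh.isCoh_cokernel hA.1 (hQ.coh h) φ) h

theorem Cls.cl_iso (hQ : Cls Q) {A B : X.Modules} (e : A ≅ B) (h : Q A) :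
    KZero.clSub Q A = KZero.clSub Q B :=
  KZ.clSub_iso Q e h (hQ.of_iso e h) (isZero_zero _) (hQ.zero (isZero_zero _))

/-- **Eilenberg's trick**: a module is the sum of the layers of a locally finite filtration. -/
theorem telescope (hQ : Cls Q) (G : ι → ℕ → X.Modules) (f : ∀ t j, G t (j + 1) ⟶ G t j) (hf : ∀ t j, Mono (f t j))
    (hG : ∀ t j, Q (G t j)) (hl : LFin fun p : ι × ℕ => G p.1 p.2) :
    KZero.clSub Q (∐ fun t => G t 0) = KZero.clSub Q (∐ fun p : ι × ℕ => cokernel (f p.1 p.2)) := by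
  let A : (ι × ℕ) → X.Modules := fun p => G p.1 p.2
  let B : (ι × ℕ) → X.Modules := fun p => G p.1 (p.2 + 1)
  let G₀ : ι → X.Modules := fun t => G t 0
  have hlA : LFin A := hl
  have hlB : LFin B := hlA.comp (e := fun p : ι × ℕ => (p.1, p.2 + 1)) fun p q h => by
    simp only [Prod.mk.injEq, add_left_inj] at h
    exact Prod.ext h.1 h.2
  have hlG : LFin G₀ := hlA.comp (e := fun t : ι => (t, 0)) fun p q h => congrArg Prod.fst h
  let u : ∐ B ⟶ ∐ A := Limits.Sigma.desc fun p => Limits.Sigma.ι A (p.1, p.2 + 1)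
  let v : ∐ A ⟶ ∐ G₀ := Limits.Sigma.desc fun p => match p with
    | (t, 0) => Limits.Sigma.ι G₀ t
    | (_, _ + 1) => 0
  let r : ∐ A ⟶ ∐ B := Limits.Sigma.desc fun p => match p with
    | (_, 0) => 0
    | (t, j + 1) => Limits.Sigma.ι B (t, j)
  let s : ∐ G₀ ⟶ ∐ A := Limits.Sigma.desc fun t => Limits.Sigma.ι A (t, 0)
  have huv : u ≫ v = 0 := Limits.Sigma.hom_ext _ _ fun p => by simp [u, v]
  have hsplit : (ShortComplex.mk u v huv).ShortExact := ShortComplex.Splitting.shortExact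
    ⟨r, s, Limits.Sigma.hom_ext _ _ fun p => by
        show Limits.Sigma.ι B p ≫ u ≫ r = Limits.Sigma.ι B p ≫ 𝟙 _
        simp [u, r],
      Limits.Sigma.hom_ext _ _ fun t => by
        show Limits.Sigma.ι G₀ t ≫ s ≫ v = Limits.Sigma.ι G₀ t ≫ 𝟙 _
        simp [s, v],
      Limits.Sigma.hom_ext _ _ fun ⟨t, j⟩ => by
        show Limits.Sigma.ι A (t, j) ≫ (r ≫ u + v ≫ s) = Limits.Sigma.ι A (t, j) ≫ 𝟙 _
        rcases j with _ | j <;> simp [u, v, r, s]⟩
  let C : (ι × ℕ) → X.Modules := fun p => cokernel (f p.1 p.2)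
  let SS : (ι × ℕ) → ShortComplex X.Modules := fun p =>
    ShortComplex.mk (f p.1 p.2) (cokernel.π _) (cokernel.condition _)
  have hSS : ∀ p, (SS p).ShortExact := fun p => by
    haveI := hf p.1 p.2
    exact .mk' (ShortComplex.exact_of_g_is_cokernel _ (cokernelIsCokernel _)) ‹_› inferInstance
  have hC : ∀ p, Q (C p) := fun p => hQ.coker _ (hQ.coh (hG _ _)) (hG _ _)
  have hlC : LFin C := hlA.of_imp fun p y => nontrivial_of_surjective (cokernel.π (f p.1 p.2))
  have hA : Q (∐ A) := hQ.sigma hlA fun p => hG _ _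
  have hB : Q (∐ B) := hQ.sigma hlB fun p => hG _ _
  have h1 := KZ.clSub_ses Q hsplit hB hA (hQ.sigma hlG fun t => hG _ _)
  have h2 := KZ.clSub_ses Q (shortExact_sigma SS hSS hlB) hB hA (hQ.sigma hlC hC)
  exact add_left_cancel (h1.symm.trans h2)

/-- Coherence of a pullback along a monomorphism. -/
theorem isCoh_pullback {A B G : X.Modules} (hA : Coh.IsCoh A) (hB : Coh.IsCoh B) (hG : Coh.IsCoh G)
    (a : A ⟶ G) (b : B ⟶ G) [Mono b] : Coh.IsCoh (pullback a b) := by
  let k := a ≫ cokernel.π b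
  have hk : (kernel.ι k ≫ a) ≫ cokernel.π b = 0 := by rw [Category.assoc, kernel.condition]
  refine SheafHomX.isCoh_of_iso (M := kernel k)
    { hom := pullback.lift (kernel.ι k) (Abelian.monoLift b (kernel.ι k ≫ a) hk) (Abelian.monoLift_comp _ _ _).symm
      inv := kernel.lift k (pullback.fst a b) (by
        show pullback.fst a b ≫ a ≫ cokernel.π b = 0
        rw [pullback.condition_assoc, cokernel.condition, comp_zero])
      hom_inv_id := by rw [← cancel_mono (kernel.ι k)]; simp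
      inv_hom_id := by
        refine pullback.hom_ext (by simp) ((cancel_mono b).1 ?_)
        simp [pullback.condition] }
    (QCoh.isCoh_kernel hA (QCoh.isCoh_cokernel hB.1 hG b) k)

/-- The double cokernel of a commutative square, taken in the two orders. -/
theorem square {A₁ A₂ A₃ A₄ : X.Modules} {t : A₁ ⟶ A₂} {l : A₁ ⟶ A₃} {r : A₂ ⟶ A₄} {b : A₃ ⟶ A₄}
    (w : t ≫ r = l ≫ b) :
    Nonempty (cokernel (cokernel.map t b l r w) ≅ cokernel (cokernel.map l r t b w.symm)) := by
  let p := cokernel.map t b l r w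
  let q := cokernel.map l r t b w.symm
  have hp : cokernel.π t ≫ p = r ≫ cokernel.π b := cokernel.π_desc _ _ _
  have hq : cokernel.π l ≫ q = b ≫ cokernel.π r := cokernel.π_desc _ _ _
  have h1 : b ≫ cokernel.π r ≫ cokernel.π q = 0 := by
    rw [← Category.assoc, ← hq, Category.assoc, cokernel.condition, comp_zero]
  have h2 : r ≫ cokernel.π b ≫ cokernel.π p = 0 := by
    rw [← Category.assoc, ← hp, Category.assoc, cokernel.condition, comp_zero]
  exact ⟨{
    hom := cokernel.desc p (cokernel.desc b (cokernel.π r ≫ cokernel.π q) h1) (by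
      rw [← cancel_epi (cokernel.π t), ← Category.assoc, hp, Category.assoc, cokernel.π_desc, ← Category.assoc,
        cokernel.condition, zero_comp, comp_zero])
    inv := cokernel.desc q (cokernel.desc r (cokernel.π b ≫ cokernel.π p) h2) (by
      rw [← cancel_epi (cokernel.π l), ← Category.assoc, hq, Category.assoc, cokernel.π_desc, ← Category.assoc,
        cokernel.condition, zero_comp, comp_zero])
    hom_inv_id := (cancel_epi (cokernel.π p)).1 ((cancel_epi (cokernel.π b)).1 (by simp [p, q]))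
    inv_hom_id := (cancel_epi (cokernel.π q)).1 ((cancel_epi (cokernel.π r)).1 (by simp [p, q])) }⟩

/-- A filtration with layers in `Q`. -/
structure Fl (Q : ObjectProperty X.Modules) (G : X.Modules) where
  obj : ℕ → X.Modules
  f : ∀ n, obj (n + 1) ⟶ obj n
  π : ∀ n, obj n ⟶ G
  w : ∀ n, f n ≫ π n = π (n + 1)
  mono : ∀ n, Mono (π n)
  top : IsIso (π 0)
  coh : ∀ n, Coh.IsCoh (obj n)
  lfin : LFin fun n : ULift.{u} ℕ => obj n.down
  q : ∀ n, Q (cokernel (f n))

attribute [instance] Fl.mono Fl.top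

instance {G : X.Modules} (F : Fl Q G) (n : ℕ) : Mono (F.f n) := mono_of_mono_fac (F.w n)

/-- The sum of the layers. -/
noncomputable def Fl.cls {G : X.Modules} (F : Fl Q G) : KZero.K0sub Q :=
  KZero.clSub Q (∐ fun n : ULift.{u} ℕ => cokernel (F.f n.down))

theorem lfin_prod {α β : Type u} {F : α → X.Modules} {H : β → X.Modules} {D : α × β → X.Modules}
    (hF : LFin F) (hH : LFin H) (h1 : ∀ p y, Nontrivial ((D p).presheaf.stalk y) → Nontrivial ((F p.1).presheaf.stalk y))
    (h2 : ∀ p y, Nontrivial ((D p).presheaf.stalk y) → Nontrivial ((H p.2).presheaf.stalk y)) : LFin D := fun x => by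
  obtain ⟨U, hxU, hU⟩ := hF x
  obtain ⟨V, hxV, hV⟩ := hH x
  exact ⟨U ⊓ V, ⟨hxU, hxV⟩, (hU.prod hV).subset fun p ⟨y, hy, hn⟩ => ⟨⟨y, hy.1, h1 p y hn⟩, ⟨y, hy.2, h2 p y hn⟩⟩⟩

section compare

variable {G : X.Modules} (F H : Fl Q G)

/-- The bifiltration of two filtrations. -/
noncomputable abbrev dd (n m : ℕ) : X.Modules := pullback (F.π n) (H.π m)

noncomputable def dh (n m : ℕ) : dd F H (n + 1) m ⟶ dd F H n m :=
  pullback.lift (pullback.fst _ _ ≫ F.f n) (pullback.snd _ _) (by rw [Category.assoc, F.w, pullback.condition])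

noncomputable def dv (n m : ℕ) : dd F H n (m + 1) ⟶ dd F H n m :=
  pullback.lift (pullback.fst _ _) (pullback.snd _ _ ≫ H.f m) (by rw [Category.assoc, H.w, pullback.condition])

theorem dh_dv (n m : ℕ) : dh F H n (m + 1) ≫ dv F H n m = dv F H (n + 1) m ≫ dh F H n m := by
  apply pullback.hom_ext <;> simp [dh, dv]

instance (n m : ℕ) : Mono (dh F H n m) :=
  haveI : Mono (pullback.snd (F.π (n + 1)) (H.π m)) := inferInstance
  mono_of_mono_fac (pullback.lift_snd _ _ _ : dh F H n m ≫ pullback.snd _ _ = _)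

instance (n m : ℕ) : Mono (dv F H n m) :=
  haveI : Mono (pullback.fst (F.π n) (H.π (m + 1))) := inferInstance
  mono_of_mono_fac (pullback.lift_fst _ _ _ : dv F H n m ≫ pullback.fst _ _ = _)

theorem isPullback_dd (n m : ℕ) :
    IsPullback (dh F H n (m + 1)) (dv F H (n + 1) m) (dv F H n m) (dh F H n m) := by
  refine ⟨⟨dh_dv F H n m⟩, ⟨PullbackCone.IsLimit.mk _
    (fun s => pullback.lift (s.snd ≫ pullback.fst _ _) (s.fst ≫ pullback.snd _ _) ?_) ?_ ?_ ?_⟩⟩
  · have e := congrArg (fun k => k ≫ pullback.fst (F.π n) (H.π m) ≫ F.π n) s.condition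
    simp [dh, dv, F.w] at e
    rw [Category.assoc, Category.assoc, ← e, pullback.condition]
  · intro s
    refine pullback.hom_ext ?_ ?_
    · have e := s.condition =≫ pullback.fst _ _
      simp [dh, dv] at e ⊢
      exact e.symm
    · simp [dh]
  · intro s
    refine pullback.hom_ext ?_ ?_
    · simp [dv]
    · have e := s.condition =≫ pullback.snd _ _
      simp [dh, dv] at e ⊢
      exact e
  · intro s k h1 h2
    refine pullback.hom_ext ?_ ?_
    · simpa [dv] using h2 =≫ pullback.fst _ _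
    · simpa [dh] using h1 =≫ pullback.snd _ _

noncomputable def piece (n m : ℕ) : X.Modules :=
  cokernel (cokernel.map (dh F H n (m + 1)) (dh F H n m) (dv F H (n + 1) m) (dv F H n m) (dh_dv F H n m))

theorem isPullback_fst (n m : ℕ) :
    IsPullback (dh F H n m) (pullback.fst _ _) (pullback.fst _ _) (F.f n) := by
  refine IsPullback.of_right (h₁₂ := pullback.snd (F.π n) (H.π m)) (v₁₃ := H.π m) (h₂₂ := F.π n) ?_
    (by simp [dh]) (IsPullback.of_hasPullback (F.π n) (H.π m)).flip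
  rw [show dh F H n m ≫ pullback.snd (F.π n) (H.π m) = pullback.snd _ _ from pullback.lift_snd _ _ _, F.w]
  exact (IsPullback.of_hasPullback (F.π (n + 1)) (H.π m)).flip

theorem isCoh_dd (hG : Coh.IsCoh G) (n m : ℕ) : Coh.IsCoh (dd F H n m) :=
  isCoh_pullback (F.coh n) (H.coh m) hG _ _

theorem q_E (hQ : Cls Q) (hG : Coh.IsCoh G) (n m : ℕ) : Q (cokernel (dh F H n m)) := by
  haveI := Abelian.mono_cokernel_map_of_isPullback (isPullback_fst F H n m)
  exact hQ.sub (cokernel.map _ _ _ _ (isPullback_fst F H n m).w)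
    (QCoh.isCoh_cokernel (isCoh_dd F H hG _ _).1 (isCoh_dd F H hG _ _) _) (F.q n)

theorem q_piece (hQ : Cls Q) (hG : Coh.IsCoh G) (n m : ℕ) : Q (piece F H n m) :=
  hQ.coker _ (hQ.coh (q_E F H hQ hG _ _)) (q_E F H hQ hG _ _)

theorem lfin_dd : LFin fun p : ULift.{u} ℕ × ℕ => dd F H p.1.down p.2 :=
  (lfin_prod (D := fun p : ULift.{u} ℕ × ULift.{u} ℕ => dd F H p.1.down p.2.down) F.lfin H.lfin
      (fun p y => nontrivial_of_injective (pullback.fst (F.π p.1.down) (H.π p.2.down)))
      (fun p y => nontrivial_of_injective (pullback.snd (F.π p.1.down) (H.π p.2.down)))).comp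
      (e := fun p : ULift.{u} ℕ × ℕ => (p.1, ULift.up.{u} p.2)) fun p q h => by
        simp only [Prod.mk.injEq, ULift.up_inj] at h
        exact Prod.ext h.1 h.2

/-- Refining a filtration by a second one. -/
theorem cls_eq_piece (hQ : Cls Q) (hG : Coh.IsCoh G) :
    F.cls = KZero.clSub Q (∐ fun p : ULift.{u} ℕ × ℕ => piece F H p.1.down p.2) := by
  let E : ULift.{u} ℕ → ℕ → X.Modules := fun n m => cokernel (dh F H n.down m)
  let g : ∀ n m, E n (m + 1) ⟶ E n m := fun n m => cokernel.map _ _ _ _ (dh_dv F H n.down m)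
  have hg : ∀ n m, Mono (g n m) := fun n m => Abelian.mono_cokernel_map_of_isPullback (isPullback_dd F H n.down m)
  have hE : ∀ n m, Q (E n m) := fun n m => q_E F H hQ hG _ _
  have hl : LFin fun p : ULift.{u} ℕ × ℕ => E p.1 p.2 :=
    (lfin_dd F H).of_imp fun p y => nontrivial_of_surjective (cokernel.π (dh F H p.1.down p.2))
  have e0 : ∀ n : ULift.{u} ℕ, E n 0 ≅ cokernel (F.f n.down) := fun n =>
    cokernel.mapIso _ _ (asIso (pullback.fst (F.π (n.down + 1)) (H.π 0))) (asIso (pullback.fst (F.π n.down) (H.π 0)))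
      (isPullback_fst F H n.down 0).w
  rw [Fl.cls, ← hQ.cl_iso (Sigma.mapIso e0) (hQ.sigma
    (hl.comp (e := fun n : ULift.{u} ℕ => (n, 0)) fun p q h => congrArg Prod.fst h) fun n => hE n 0)]
  exact telescope hQ E g hg hE hl

theorem piece_comm (n m : ℕ) : Nonempty (piece F H n m ≅ piece H F m n) := by
  obtain ⟨e⟩ := square (dh_dv F H n m)
  let s : ∀ n m, dd F H n m ≅ dd H F m n := fun n m => pullbackSymmetry _ _
  refine ⟨e ≪≫ cokernel.mapIso _ _ (cokernel.mapIso _ _ (s (n + 1) (m + 1)) (s (n + 1) m) ?_)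
    (cokernel.mapIso _ _ (s n (m + 1)) (s n m) ?_) ?_⟩
  · apply pullback.hom_ext <;> simp [dh, dv, s]
  · apply pullback.hom_ext <;> simp [dh, dv, s]
  · rw [← cancel_epi (cokernel.π _)]
    simp only [cokernel.mapIso_hom, cokernel.π_desc_assoc, Category.assoc, cokernel.π_desc]
    rw [← Category.assoc, ← Category.assoc]
    congr 1
    apply pullback.hom_ext <;> simp [dh, dv, s]

theorem lfin_piece : LFin fun p : ULift.{u} ℕ × ℕ => piece F H p.1.down p.2 :=
  (lfin_dd F H).of_imp fun p y h =>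
    nontrivial_of_surjective (cokernel.π (dh F H p.1.down p.2)) (nontrivial_of_surjective (cokernel.π _) h)

/-- Any two filtrations have the same class. -/
theorem cls_congr (hQ : Cls Q) (hG : Coh.IsCoh G) : F.cls = H.cls := by
  rw [cls_eq_piece F H hQ hG, cls_eq_piece H F hQ hG]
  refine hQ.cl_iso (Limits.Sigma.whiskerEquiv
    (⟨fun p => (⟨p.2⟩, p.1.down), fun p => (⟨p.2⟩, p.1.down), fun _ => rfl, fun _ => rfl⟩ :
      (ULift.{u} ℕ × ℕ) ≃ (ULift.{u} ℕ × ℕ))
    fun p => (piece_comm F H p.1.down p.2).some.symm) (hQ.sigma (lfin_piece F H) fun p => q_piece F H hQ hG _ _)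

end compare

section ses

variable {S : ShortComplex X.Modules}

/-- A filtration of the middle term of an exact sequence splits into filtrations of the ends. -/
theorem exists_split (hS : S.ShortExact) (hQ : Cls Q) (hc : Coh.IsCoh S.X₁) (hc2 : Coh.IsCoh S.X₂)
    (F : Fl Q S.X₂) : ∃ (F₁ : Fl Q S.X₁) (F₃ : Fl Q S.X₃), F.cls = F₁.cls + F₃.cls := by
  haveI := hS.mono_f
  haveI := hS.epi_g
  let P : ℕ → X.Modules := fun n => pullback (F.π n) S.f
  let a : ∀ n, P n ⟶ F.obj n := fun n => pullback.fst _ _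
  let ρ : ∀ n, P n ⟶ S.X₁ := fun n => pullback.snd _ _
  let f₁ : ∀ n, P (n + 1) ⟶ P n := fun n =>
    pullback.lift (pullback.fst _ _ ≫ F.f n) (pullback.snd _ _) (by rw [Category.assoc, F.w, pullback.condition])
  have w₁ : ∀ n, f₁ n ≫ ρ n = ρ (n + 1) := fun n => pullback.lift_snd _ _ _
  have wa : ∀ n, f₁ n ≫ a n = a (n + 1) ≫ F.f n := fun n => pullback.lift_fst _ _ _
  have hsq : ∀ n, IsPullback (f₁ n) (a (n + 1)) (a n) (F.f n) := fun n => by
    refine IsPullback.of_right (h₁₂ := ρ n) (v₁₃ := S.f) (h₂₂ := F.π n) ?_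
      (wa n) (IsPullback.of_hasPullback (F.π n) S.f).flip
    rw [w₁, F.w]
    exact (IsPullback.of_hasPullback (F.π (n + 1)) S.f).flip
  have hP : ∀ n, Coh.IsCoh (P n) := fun n => isCoh_pullback (F.coh n) hc hc2 _ _
  let d : ∀ n, cokernel (f₁ n) ⟶ cokernel (F.f n) := fun n => cokernel.map _ _ _ _ (hsq n).w
  have hd : ∀ n, Mono (d n) := fun n => Abelian.mono_cokernel_map_of_isPullback (hsq n)
  have hq₁ : ∀ n, Q (cokernel (f₁ n)) := fun n =>
    haveI := hd n
    hQ.sub (d n) (QCoh.isCoh_cokernel (hP _).1 (hP _) _) (F.q n)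
  let B : ℕ → X.Modules := fun n => cokernel (a n)
  let f₃ : ∀ n, B (n + 1) ⟶ B n := fun n => cokernel.map _ _ _ _ (hsq n).w.symm
  let σ : ∀ n, B n ⟶ S.X₃ := fun n => cokernel.desc (a n) (F.π n ≫ S.g) (by
    rw [← Category.assoc, pullback.condition, Category.assoc, S.zero, comp_zero])
  have w₃ : ∀ n, f₃ n ≫ σ n = σ (n + 1) := fun n =>
    (cancel_epi (cokernel.π (a (n + 1)))).1 (by
      show cokernel.π (a (n + 1)) ≫ cokernel.desc _ _ _ ≫ cokernel.desc _ _ _ = cokernel.π (a (n + 1)) ≫ cokernel.desc _ _ _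
      rw [cokernel.π_desc_assoc, Category.assoc, cokernel.π_desc, cokernel.π_desc, ← Category.assoc, F.w])
  have hσ : ∀ n, Mono (σ n) := fun n => by
    haveI := Abelian.mono_cokernel_map_of_isPullback (IsPullback.of_hasPullback (F.π n) S.f)
    rw [show σ n = cokernel.map _ _ _ _ (IsPullback.of_hasPullback (F.π n) S.f).w ≫
      cokernel.desc S.f S.g S.zero from (cancel_epi (cokernel.π (a n))).1 (by simp [σ, a])]
    haveI : Mono (cokernel.desc S.f S.g S.zero) := hS.exact.mono_cokernelDesc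
    exact mono_comp _ _
  have h0 : IsIso (σ 0) := by
    haveI := hσ 0
    haveI : Epi (σ 0) := epi_of_epi_fac (show cokernel.π (a 0) ≫ σ 0 = F.π 0 ≫ S.g from cokernel.π_desc _ _ _)
    exact isIso_of_mono_of_epi _
  have hsq' : ∀ n, Nonempty (cokernel (d n) ≅ cokernel (f₃ n)) := fun n => square (hsq n).w
  have hq₃ : ∀ n, Q (cokernel (f₃ n)) := fun n =>
    hQ.of_iso (hsq' n).some (hQ.coker (d n) (hQ.coh (hq₁ n)) (F.q n))
  let F₁ : Fl Q S.X₁ :=
    { obj := P, f := f₁, π := ρ, w := w₁, mono := fun n => inferInstanceAs (Mono (pullback.snd _ _))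
      top := inferInstanceAs (IsIso (pullback.snd _ _)), coh := hP, q := hq₁
      lfin := F.lfin.of_imp fun n y => nontrivial_of_injective (a n.down) }
  let F₃ : Fl Q S.X₃ :=
    { obj := B, f := f₃, π := σ, w := w₃, mono := hσ, top := h0
      coh := fun n => QCoh.isCoh_cokernel (hP n).1 (F.coh n) _, q := hq₃
      lfin := F.lfin.of_imp fun n y => nontrivial_of_surjective (cokernel.π (a n.down)) }
  refine ⟨F₁, F₃, ?_⟩
  let T : ULift.{u} ℕ → ShortComplex X.Modules := fun n =>
    ShortComplex.mk (d n.down) (cokernel.π (d n.down)) (cokernel.condition _)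
  have hT : ∀ n, (T n).ShortExact := fun n => by
    haveI := hd n.down
    exact .mk' (ShortComplex.exact_of_g_is_cokernel _ (cokernelIsCokernel _)) ‹_› inferInstance
  have l1 : LFin fun n : ULift.{u} ℕ => (T n).X₁ :=
    F₁.lfin.of_imp fun n y => nontrivial_of_surjective (cokernel.π (f₁ n.down))
  have l2 : LFin fun n : ULift.{u} ℕ => (T n).X₂ :=
    F.lfin.of_imp fun n y => nontrivial_of_surjective (cokernel.π (F.f n.down))
  have l3 : LFin fun n : ULift.{u} ℕ => (T n).X₃ :=
    l2.of_imp fun n y => nontrivial_of_surjective (cokernel.π (d n.down))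
  have q3 : ∀ n : ULift.{u} ℕ, Q (T n).X₃ := fun n => hQ.coker (d n.down) (hQ.coh (hq₁ _)) (F.q n.down)
  have e := KZ.clSub_ses Q (shortExact_sigma T hT l1) (hQ.sigma l1 fun n => hq₁ _) (hQ.sigma l2 fun n => F.q _)
    (hQ.sigma l3 q3)
  exact e.trans (congrArg _ (hQ.cl_iso (Sigma.mapIso fun n : ULift.{u} ℕ => (hsq' n.down).some) (hQ.sigma l3 q3)))

end ses

/-- The constant filtration of a member. -/
noncomputable def Fl.trivial (hQ : Cls Q) {G : X.Modules} (hG : Q G) : Fl Q G where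
  obj := fun | 0 => G | _ + 1 => kernel (𝟙 G)
  f := fun | 0 => kernel.ι (𝟙 G) | _ + 1 => 𝟙 _
  π := fun | 0 => 𝟙 G | _ + 1 => kernel.ι (𝟙 G)
  w := fun | 0 => Category.comp_id _ | _ + 1 => Category.id_comp _
  mono := fun | 0 => inferInstanceAs (Mono (𝟙 G)) | _ + 1 => inferInstanceAs (Mono (kernel.ι _))
  top := inferInstanceAs (IsIso (𝟙 G))
  coh := fun | 0 => hQ.coh hG | _ + 1 => hQ.coh (hQ.zero (isZero_kernel_of_mono _))
  lfin := fun x => ⟨⊤, True.intro, (Set.finite_singleton (ULift.up.{u} 0)).subset fun n ⟨y, _, hn⟩ => by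
    obtain ⟨_ | n⟩ := n
    · rfl
    · exact absurd (subsingleton_stalk_of_isZero (isZero_kernel_of_mono _) y) (not_subsingleton_iff_nontrivial.2 hn)⟩
  q := fun
    | 0 => hQ.coker _ (hQ.coh (hQ.zero (isZero_kernel_of_mono _))) hG
    | _ + 1 => hQ.zero (isZero_cokernel_of_epi _)

/-- The class of a filtered member. -/
theorem clSub_eq_cls {P : ObjectProperty X.Modules} (hP : Cls P) {R : ObjectProperty X.Modules} {G : X.Modules} (F : Fl R G) (hF : ∀ n, P (F.obj n)) :
    KZero.clSub P G = KZero.clSub P (∐ fun n : ULift.{u} ℕ => cokernel (F.f n.down)) := by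
  let G' : PUnit.{u + 1} → ℕ → X.Modules := fun _ n => F.obj n
  have hl : LFin fun p : PUnit.{u + 1} × ℕ => G' p.1 p.2 :=
    F.lfin.comp (e := fun p : PUnit.{u + 1} × ℕ => ULift.up.{u} p.2) fun p q h => Prod.ext rfl (congrArg ULift.down h)
  have h := telescope hP G' (fun _ n => F.f n) (fun _ n => inferInstance) (fun _ n => hF n) hl
  have e0 : (∐ fun t => G' t 0) ≅ G := (coproductUniqueIso _) ≪≫ asIso (F.π 0)
  rw [← hP.cl_iso e0 (hP.sigma (hl.comp (e := fun t : PUnit.{u + 1} => (t, 0)) fun p q _ => Subsingleton.elim p q)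
    fun t => hF 0), h]
  have hl2 : LFin fun p : PUnit.{u + 1} × ℕ => cokernel (F.f p.2) :=
    hl.of_imp fun p y => nontrivial_of_surjective (cokernel.π (F.f p.2))
  refine hP.cl_iso (Limits.Sigma.whiskerEquiv (g := fun n : ULift.{u} ℕ => cokernel (F.f n.down))
    (⟨fun p => ⟨p.2⟩, fun n => (⟨⟩, n.down), fun _ => rfl, fun _ => rfl⟩ : PUnit.{u + 1} × ℕ ≃ ULift.{u} ℕ)
    fun p => Iso.refl (cokernel (F.f p.2))) (hP.sigma hl2 fun p => hP.coker _ (hP.coh (hF _)) (hF _))

/-- **Dévissage.** -/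
theorem exists_equiv {P : ObjectProperty X.Modules} (hP : Cls P) (hQ : Cls Q) (hle : ∀ M, Q M → P M)
    (hfl : ∀ M, P M → Nonempty (Fl Q M)) :
    ∃ φ : KZero.K0sub Q ≃+ KZero.K0sub P, ∀ M, Q M → φ (KZero.clSub Q M) = KZero.clSub P M := by
  classical
  obtain ⟨f, hf⟩ := KZ.exists_liftSub Q (fun M => KZero.clSub P M) fun S hS a b c =>
    KZ.clSub_ses P hS (hle _ a) (hle _ b) (hle _ c)
  let val : X.Modules → KZero.K0sub Q := fun M => if h : P M then (hfl M h).some.cls else 0
  have hval : ∀ M (F : Fl Q M), P M → val M = F.cls := fun M F h =>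
    (dif_pos h).trans (cls_congr _ F hQ (hP.coh h))
  obtain ⟨g, hg⟩ := KZ.exists_liftSub P val fun S hS a b c => by
    obtain ⟨F₁, F₃, e⟩ := exists_split hS hQ (hP.coh a) (hP.coh b) (hfl _ b).some
    rw [hval _ F₁ a, hval _ F₃ c, ← e]
    exact dif_pos b
  refine ⟨AddMonoidHom.toAddEquiv f g (KZ.K0sub_hom_ext Q fun M hM => ?_) (KZ.K0sub_hom_ext P fun M hM => ?_),
    fun M hM => hf M hM⟩
  · rw [AddMonoidHom.comp_apply, hf M hM, hg _ (hle M hM), AddMonoidHom.id_apply,
      hval M (Fl.trivial hQ hM) (hle M hM)]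
    exact (clSub_eq_cls hQ (Fl.trivial hQ hM) fun
      | 0 => hM
      | _ + 1 => hQ.zero (isZero_kernel_of_mono _)).symm
  · let F := (hfl M hM).some
    rw [AddMonoidHom.comp_apply, hg M hM, hval M F hM, AddMonoidHom.id_apply]
    refine (hf _ (hQ.sigma (F.lfin.of_imp fun n y => nontrivial_of_surjective (cokernel.π (F.f n.down)))
      fun n => F.q _)).trans (clSub_eq_cls hP F fun n => hP.sub (F.π n) (F.coh n) hM).symm

end Groth.Agent.CycK.LFDev
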