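import Groth.Agent.CycK.Quot
import Groth.Agent.QCoh.Devissage
import Groth.Agent.H23.RedSub
import Groth.Agent.CycLib.Div
import Groth.Agent.H23.ZeroSec

/-! The structure sheaf of the reduced closure of a point. -/

set_option autoImplicit false
set_option linter.style.haveILetI false
set_option linter.unusedSectionVars false
set_option backward.isDefEq.respectTransparency false
set_option backward.isDefEq.respectTransparency.types false

universe u

open CategoryTheory CategoryTheory.Limits AlgebraicGeometry TopologicalSpace Opposite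

namespace Groth.Agent.CycK

variable {X : Scheme.{u}}

/-- The generator of the structure sheaf of the closure of a point. -/
noncomputable def one (ξ y : X) : (Cyc.closureStructureSheaf ξ).presheaf.stalk y :=
  (Cyc.closureStructureSheaf ξ).presheaf.germ ⊤ y trivial
    (1 : Γ((IntMult.ptIdeal ξ).subscheme, (IntMult.ptIdeal ξ).subschemeι ⁻¹ᵁ ⊤))

theorem spec_one {ξ y z : X} (h : z ⤳ y) :
    (Cyc.closureStructureSheaf ξ).presheaf.stalkSpecializes h (one ξ y) = one ξ z :=
  TopCat.Presheaf.germ_stalkSpecializes_apply (F := (Cyc.closureStructureSheaf ξ).presheaf) (U := ⊤) trivial h _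

theorem range_ptι (ξ : X) : Set.range (IntMult.ptIdeal ξ).subschemeι = closure {ξ} :=
  H23.RedSub.range_vanishingIdeal _

theorem nontrivial_closureStructureSheaf {ξ y : X} (h : Nontrivial ((Cyc.closureStructureSheaf ξ).presheaf.stalk y)) :
    ξ ⤳ y :=
  specializes_iff_mem_closure.2 <| range_ptι ξ ▸
    QCoh.support_push_subset (IntMult.ptIdeal ξ).subschemeι QCoh.isQCoh_structureModule
      (not_subsingleton_iff_nontrivial.2 h : ¬ Subsingleton _)

theorem one_spanning (ξ y : X) (m : (Cyc.closureStructureSheaf ξ).presheaf.stalk y) :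
    ∃ a : X.presheaf.stalk y, a • one ξ y = m := by
  let i := (IntMult.ptIdeal ξ).subschemeι
  obtain ⟨W, hW, hyW, m', rfl⟩ := CycLib.exists_germ_affine (Cyc.closureStructureSheaf ξ) m
  obtain ⟨r, hr⟩ := i.app_surjective W hW (show Γ((IntMult.ptIdeal ξ).subscheme, i ⁻¹ᵁ W) from m')
  refine ⟨X.presheaf.germ W y hyW r, ?_⟩
  rw [one, ← TopCat.Presheaf.germ_res_apply (F := (Cyc.closureStructureSheaf ξ).presheaf)
    (homOfLE (le_top : W ≤ ⊤)) y hyW, ← QCoh.germ_smul']
  refine congrArg _ ((QCoh.pushforward_smul i W r _).trans ?_)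
  exact (congrArg (fun a : Γ((IntMult.ptIdeal ξ).subscheme, i ⁻¹ᵁ W) => (i.app W r) * a)
    (map_one ((IntMult.ptIdeal ξ).subscheme.presheaf.map ((Opens.map i.base).map (homOfLE le_top)).op).hom)).trans
    ((mul_one _).trans hr)

theorem smul_one_eq_zero_iff {ξ y : X} (h : ξ ⤳ y) (a : X.presheaf.stalk y) :
    a • one ξ y = 0 ↔ a ∈ RingHom.ker (Cyc.specMap y ξ h) := by
  let i := (IntMult.ptIdeal ξ).subschemeι
  haveI : IsReduced (IntMult.ptIdeal ξ).subscheme := H23.RedSub.isReduced_vanishingIdeal _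
  have hne : Nontrivial ((Cyc.closureStructureSheaf ξ).presheaf.stalk ξ) := by
    refine not_subsingleton_iff_nontrivial.1 fun hs => ?_
    obtain ⟨z, hz⟩ : ξ ∈ Set.range i := (range_ptι ξ).ge (subset_closure rfl)
    obtain ⟨V, hξV, i1, i2, hV⟩ := (Cyc.closureStructureSheaf ξ).presheaf.germ_eq ξ (U := ⊤) (V := ⊤) trivial trivial
      (1 : Γ((IntMult.ptIdeal ξ).subscheme, i ⁻¹ᵁ ⊤)) 0 (Subsingleton.elim (α := (Cyc.closureStructureSheaf ξ).presheaf.stalk ξ) _ _)
    rw [map_zero] at hV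
    haveI : Nonempty ↥(i ⁻¹ᵁ V) := ⟨⟨z, show i z ∈ V from (congrArg (· ∈ V) hz).mpr hξV⟩⟩
    exact one_ne_zero (α := Γ((IntMult.ptIdeal ξ).subscheme, i ⁻¹ᵁ V))
      ((map_one ((IntMult.ptIdeal ξ).subscheme.presheaf.map ((Opens.map i.base).map i1).op).hom).symm.trans hV)
  have hiff : ∀ (W : X.Opens) (hy : y ∈ W) (r : Γ(X, W)),
      Cyc.specMap y ξ h (X.presheaf.germ W y hy r) = 0 ↔ i.app W r = 0 := fun W hy r => by
    show X.residue ξ (X.presheaf.stalkSpecializes h (X.presheaf.germ W y hy r)) = 0 ↔ _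
    rw [TopCat.Presheaf.germ_stalkSpecializes_apply]
    have hξW : ξ ∈ W := h.mem_open W.2 hy
    have : X.residue ξ (X.presheaf.germ W ξ hξW r) = 0 ↔ ξ ∉ X.basicOpen r := by
      rw [X.mem_basicOpen r ξ hξW]
      exact Ideal.Quotient.eq_zero_iff_mem.trans (IsLocalRing.mem_maximalIdeal _)
    rw [this]
    constructor
    · intro hc
      refine (AlgebraicGeometry.basicOpen_eq_bot_iff _).1 (le_bot_iff.1 fun z hz => hc ?_)
      rw [← Scheme.preimage_basicOpen] at hz
      exact (specializes_iff_mem_closure.2 (range_ptι ξ ▸ Set.mem_range_self z)).mem_open (X.basicOpen r).2 hz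
    · intro h0 hc
      obtain ⟨z, hz⟩ : ξ ∈ Set.range i := (range_ptι ξ).ge (subset_closure rfl)
      have hzm : z ∈ i ⁻¹ᵁ X.basicOpen r := show i z ∈ X.basicOpen r from (congrArg (· ∈ X.basicOpen r) hz).mpr hc
      rw [Scheme.preimage_basicOpen, h0, Scheme.basicOpen_zero] at hzm
      exact hzm
  obtain ⟨W, hyW, r, rfl⟩ := X.presheaf.exists_germ_eq (x := y) a
  rw [RingHom.mem_ker]
  constructor
  · intro h0
    by_contra hc
    have hu : IsUnit ((X.presheaf.stalkSpecializes h) (X.presheaf.germ W y hyW r)) := by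
      by_contra hn
      exact hc (Ideal.Quotient.eq_zero_iff_mem.2 ((IsLocalRing.mem_maximalIdeal _).2 hn))
    have h1 := congrArg ((Cyc.closureStructureSheaf ξ).presheaf.stalkSpecializes h) h0
    rw [H23.ZeroSec.stalkSpecializes_smul, spec_one, map_zero] at h1
    obtain ⟨m, hm⟩ := exists_ne (0 : (Cyc.closureStructureSheaf ξ).presheaf.stalk ξ)
    obtain ⟨b, rfl⟩ := one_spanning ξ ξ m
    exact hm (by rw [show one ξ ξ = 0 from hu.smul_left_cancel.1 (h1.trans (smul_zero _).symm), smul_zero])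
  · intro h0
    rw [one, ← TopCat.Presheaf.germ_res_apply (F := (Cyc.closureStructureSheaf ξ).presheaf)
      (homOfLE (le_top : W ≤ ⊤)) y hyW, ← QCoh.germ_smul']
    refine (congrArg _ ((QCoh.pushforward_smul i W r _).trans ?_)).trans (map_zero _)
    rw [(hiff W hyW r).1 h0]
    exact zero_mul (M₀ := Γ((IntMult.ptIdeal ξ).subscheme, i ⁻¹ᵁ W)) _

/-- The stalk of the structure sheaf of the closure of `ξ` at a specialization. -/
noncomputable def closureStalkEquiv {ξ y : X} (h : ξ ⤳ y) :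
    Cyc.LocQuot y ξ h ≃ₗ[X.presheaf.stalk y] (Cyc.closureStructureSheaf ξ).presheaf.stalk y :=
  Submodule.quotEquivOfEq _ _ (Submodule.ext fun a => (smul_one_eq_zero_iff h a).symm) ≪≫ₗ
    (LinearMap.toSpanSingleton _ _ (one ξ y)).quotKerEquivOfSurjective fun m => one_spanning ξ y m

theorem closureStalkEquiv_mk {ξ y : X} (h : ξ ⤳ y) (a : X.presheaf.stalk y) :
    closureStalkEquiv h (Ideal.Quotient.mk _ a) = a • one ξ y := rfl

theorem ker_specMap_refl (ξ : X) :
    RingHom.ker (Cyc.specMap ξ ξ (specializes_refl ξ)) = IsLocalRing.maximalIdeal (X.presheaf.stalk ξ) := by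
  ext a
  rw [RingHom.mem_ker]
  show X.residue ξ (X.presheaf.stalkSpecializes (specializes_refl ξ) a) = 0 ↔ _
  rw [TopCat.Presheaf.stalkSpecializes_refl]
  exact Ideal.Quotient.eq_zero_iff_mem

theorem smul_eq_zero_self (ξ : X) {a : X.presheaf.stalk ξ} (ha : a ∈ IsLocalRing.maximalIdeal _)
    (m : (Cyc.closureStructureSheaf ξ).presheaf.stalk ξ) : a • m = 0 := by
  obtain ⟨b, rfl⟩ := one_spanning ξ ξ m
  rw [← mul_smul, mul_comm, mul_smul,
    (smul_one_eq_zero_iff (specializes_refl ξ) a).2 (ker_specMap_refl ξ ▸ ha), smul_zero]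

theorem length_self (ξ : X) :
    Module.length (X.presheaf.stalk ξ) ((Cyc.closureStructureSheaf ξ).presheaf.stalk ξ) = 1 := by
  rw [← (closureStalkEquiv (specializes_refl ξ)).length_eq, Module.length_eq_one_iff]
  exact isSimpleModule_iff_isCoatom.2 (ker_specMap_refl ξ ▸ (IsLocalRing.maximalIdeal.isMaximal _).out)

variable [IsLocallyNoetherian X]

theorem isCoh_closureStructureSheaf (ξ : X) : Coh.IsCoh (Cyc.closureStructureSheaf ξ) :=
  QCoh.isCoh_iff.2 ⟨QCoh.isQCoh_pushforward (IntMult.ptIdeal ξ).subschemeι QCoh.isQCoh_structureModule,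
    fun W => Module.Finite.of_surjective
      (⟨⟨fun r => (show Γ(Cyc.closureStructureSheaf ξ, W.1) from (IntMult.ptIdeal ξ).subschemeι.app W.1 r)
        , fun a b => map_add _ a b⟩, fun a b => by
          refine ((map_mul ((IntMult.ptIdeal ξ).subschemeι.app W.1).hom a b).trans ?_)
          exact (QCoh.pushforward_smul (M := Coh.structureModule (IntMult.ptIdeal ξ).subscheme)
            (IntMult.ptIdeal ξ).subschemeι W.1 a ((IntMult.ptIdeal ξ).subschemeι.app W.1 b)).symm⟩ :
        Γ(X, W.1) →ₗ[Γ(X, W.1)] Γ(Cyc.closureStructureSheaf ξ, W.1))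
      ((IntMult.ptIdeal ξ).subschemeι.app_surjective W.1 W.2)⟩

theorem cohLe_closureStructureSheaf {δ : X → ℤ} (hd : Cyc.IsDimFun X δ) {k : ℤ} {ξ : X} (hξ : δ ξ ≤ k) :
    Cyc.CohLe δ k (Cyc.closureStructureSheaf ξ) :=
  ⟨isCoh_closureStructureSheaf ξ, fun _ hy =>
    (CycLib.delta_le hd (nontrivial_closureStructureSheaf hy)).trans hξ⟩

/-- Away from its generic point the closure has smaller dimension. -/
theorem subsingleton_of_delta {δ : X → ℤ} (hd : Cyc.IsDimFun X δ) {ξ y : X} (hne : y ≠ ξ) (h : δ ξ ≤ δ y) :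
    Subsingleton ((Cyc.closureStructureSheaf ξ).presheaf.stalk y) :=
  not_nontrivial_iff_subsingleton.1 fun hy =>
    hne (CycLib.eq_of_delta_le hd (nontrivial_closureStructureSheaf hy) h).symm

end Groth.Agent.CycK
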