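import Groth.Agent.CycK.Sl
import Groth.Agent.QCoh.Qcqs
import Groth.Agent.QCoh.Submod

/-! Coherent submodules cut out at one point. -/

set_option autoImplicit false
set_option linter.style.haveILetI false
set_option linter.unusedSectionVars false
set_option backward.isDefEq.respectTransparency false
set_option backward.isDefEq.respectTransparency.types false

universe u

open CategoryTheory CategoryTheory.Limits AlgebraicGeometry TopologicalSpace Opposite

namespace Groth.Agent.CycK

variable {X : Scheme.{u}}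

/-- Every element is killed by a power of every element of the maximal ideal. -/
def Tors {R : Type u} [CommRing R] [IsLocalRing R] (T : Type u) [AddCommGroup T] [Module R T] : Prop :=
  ∀ f ∈ IsLocalRing.maximalIdeal R, ∀ t : T, ∃ n : ℕ, f ^ n • t = 0

theorem tors_of_finiteLength {R : Type u} [CommRing R] [IsLocalRing R] {T : Type u} [AddCommGroup T] [Module R T]
    (h : Module.length R T ≠ ⊤) : Tors (R := R) T := by
  intro f hf t
  obtain ⟨hnoe, hart⟩ := isFiniteLength_iff_isNoetherian_isArtinian.1 (Module.length_ne_top_iff.1 h)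
  haveI := hnoe; haveI := hart
  obtain ⟨n, hn⟩ := IsArtinian.monotone_stabilizes
    (⟨fun k => OrderDual.toDual ((Ideal.span {f}) ^ k • (⊤ : Submodule R T)), fun a b hab =>
      Submodule.smul_mono_left (Ideal.pow_le_pow_right hab)⟩ : ℕ →o (Submodule R T)ᵒᵈ)
  have hN : ((Ideal.span {f}) ^ n • (⊤ : Submodule R T)) ≤
      Ideal.span {f} • ((Ideal.span {f}) ^ n • (⊤ : Submodule R T)) := by
    rw [← Submodule.smul_assoc, Ideal.smul_eq_mul, ← pow_succ']
    exact (OrderDual.toDual.injective (hn (n + 1) n.le_succ)).le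
  have h0 := Submodule.eq_bot_of_le_smul_of_le_jacobson_bot (Ideal.span {f}) _ (IsNoetherian.noetherian _) hN
    (by rw [IsLocalRing.jacobson_eq_maximalIdeal ⊥ bot_ne_top]; exact (Ideal.span_singleton_le_iff_mem _).2 hf)
  refine ⟨n, ?_⟩
  have : f ^ n • t ∈ (Ideal.span {f}) ^ n • (⊤ : Submodule R T) :=
    Submodule.smul_mem_smul (Ideal.pow_mem_pow (Ideal.mem_span_singleton_self f) n) trivial
  rwa [h0, Submodule.mem_bot] at this

theorem isQCoh_sky (x : X) (T : ModuleCat.{u} (X.presheaf.stalk x)) (hT : Tors (R := X.presheaf.stalk x) T) :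
    Coh.IsQCoh ((KFlatLib.sky x).obj T) := by
  classical
  refine QCoh.isQCoh_of_sections (fun U hU f s => ?_) (fun U hU f t ht => ?_)
  · refine ⟨0, fun _ => if h : x ∈ X.basicOpen f then ((s : ∀ _, _) ⟨h⟩ : T) else 0, ?_⟩
    rw [pow_zero, one_smul]
    exact funext fun h => dif_pos h.down
  · by_cases h : x ∈ U
    · by_cases hf : x ∈ X.basicOpen f
      · refine ⟨0, ?_⟩
        rw [pow_zero, one_smul]
        exact funext fun h' => (congrFun ht ⟨hf⟩ :)
      · obtain ⟨n, hn⟩ := hT (X.presheaf.germ U x h f)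
          ((IsLocalRing.mem_maximalIdeal _).2 fun hu => hf ((X.mem_basicOpen _ x h).2 hu))
          ((t : ∀ _, _) ⟨h⟩ : T)
        refine ⟨n, funext fun h' => ?_⟩
        show X.presheaf.germ U x h'.down (f ^ n) • ((t : ∀ _, _) h' : T) = 0
        rw [map_pow]
        exact hn
    · exact ⟨0, funext fun h' => absurd h'.down h⟩

theorem subsingleton_stalk_sky {x y : X} (T : ModuleCat.{u} (X.presheaf.stalk x)) (h : ¬ x ⤳ y) :
    Subsingleton (((KFlatLib.sky x).obj T).presheaf.stalk y) := by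
  refine subsingleton_of_forall_eq 0 fun m => ?_
  obtain ⟨U, hy, s, rfl⟩ := ((KFlatLib.sky x).obj T).presheaf.exists_germ_eq (x := y) m
  obtain ⟨V, hV, hxV⟩ : ∃ V : X.Opens, y ∈ V ∧ x ∉ V :=
    ⟨⟨(closure {x})ᶜ, isClosed_closure.isOpen_compl⟩, fun hc => h (specializes_iff_mem_closure.2 hc),
      fun hc => hc (subset_closure rfl)⟩
  rw [← TopCat.Presheaf.germ_res_apply (F := ((KFlatLib.sky x).obj T).presheaf)
    (homOfLE (inf_le_left : U ⊓ V ≤ U)) y ⟨hy, hV⟩ s]
  have h0 : ((KFlatLib.sky x).obj T).presheaf.map (homOfLE (inf_le_left : U ⊓ V ≤ U)).op s = 0 :=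
    funext fun h' => absurd h'.down.2 hxV
  rw [h0, map_zero]

/-- The unit composed with a map on the stalk has that map as its stalk. -/
theorem exists_toSky (F : X.Modules) (x : X) {T : ModuleCat.{u} (X.presheaf.stalk x)}
    (φ : (DerSch.stalkFunctor X x).obj F ⟶ T) :
    ∃ (ψ : F ⟶ (KFlatLib.sky x).obj T) (e : (DerSch.stalkFunctor X x).obj ((KFlatLib.sky x).obj T) ≅ T),
      (DerSch.stalkFunctor X x).map ψ ≫ e.hom = φ := by
  haveI : IsIso ((KFlatLib.skyAdj x).counit.app T) := by
    rw [← Adjunction.homEquiv_symm_id, KFlatLib.skyAdj, Adjunction.mkOfHomEquiv_homEquiv]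
    show IsIso ((KFlatLib.stalkToPIso x).hom.app ((KFlatLib.sky x).obj T) ≫
      KFlatLib.ofSkyP x (𝟙 (KFlatLib.skyP x T)))
    haveI : IsIso (KFlatLib.ofSkyP x (𝟙 (KFlatLib.skyP x T))) := by
      haveI : IsIso (KFlatLib.stalkModMap (x := x) (𝟙 (KFlatLib.skyP x T))) :=
        inferInstanceAs (IsIso ((KFlatLib.stalkP x).map (𝟙 (KFlatLib.skyP x T))))
      exact IsIso.comp_isIso
    infer_instance
  exact ⟨(KFlatLib.skyAdj x).homEquiv _ _ φ, asIso ((KFlatLib.skyAdj x).counit.app T),
    (Adjunction.homEquiv_counit _ _ _ _).symm.trans (Equiv.symm_apply_apply _ _)⟩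

variable [IsLocallyNoetherian X]

/-- A submodule of the stalk at `x` is the stalk of a coherent submodule. -/
theorem exists_ptSub {F : X.Modules} (hF : Coh.IsCoh F) (x : X)
    (N : Submodule (X.presheaf.stalk x) (F.presheaf.stalk x))
    (hN : Tors (R := X.presheaf.stalk x) (F.presheaf.stalk x ⧸ N)) :
    ∃ (G : X.Modules) (ι : G ⟶ F), Mono ι ∧ Coh.IsCoh G ∧ LinearMap.range (sl ι x) = N ∧
      (∀ y, ¬ x ⤳ y → Function.Bijective (sl ι y)) ∧
      ∀ (H : X.Modules) (φ : H ⟶ F), LinearMap.range (sl φ x) ≤ N → ∃ ψ : H ⟶ G, ψ ≫ ι = φ := by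
  let T : ModuleCat.{u} (X.presheaf.stalk x) := ModuleCat.of _ (F.presheaf.stalk x ⧸ N)
  let q : (DerSch.stalkFunctor X x).obj F ⟶ T := ModuleCat.ofHom N.mkQ
  obtain ⟨ψ, e, he⟩ := exists_toSky F x q
  have hq : Coh.IsQCoh ((KFlatLib.sky x).obj T) := isQCoh_sky x T hN
  have hker : ∀ m, sl ψ x m = 0 ↔ m ∈ N := fun m => by
    rw [← Submodule.Quotient.mk_eq_zero N]
    constructor
    · intro h
      have := congrArg e.hom h
      rw [map_zero] at this
      exact (congr($he m)).symm.trans this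
    · intro h
      exact e.toLinearEquiv.map_eq_zero_iff.1 ((congr($he m)).trans h)
  have hex := fun y => sl_exact (S := ShortComplex.mk (kernel.ι ψ) ψ (kernel.condition ψ))
    (ShortComplex.exact_of_f_is_kernel _ (kernelIsKernel ψ)) y
  refine ⟨kernel ψ, kernel.ι ψ, inferInstance,
    QCoh.isCoh_of_mono (kernel.ι ψ) hF (QCoh.isQCoh_kernel hF.1 hq ψ), ?_, fun y hy => ?_, fun H φ hφ => ?_⟩
  · ext m
    exact ((hex x m).symm.trans (hker m))
  · haveI := subsingleton_stalk_sky T hy
    exact ⟨sl_injective _ y, fun m => (hex y m).1 (Subsingleton.elim (sl ψ y m) 0)⟩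
  · refine ⟨kernel.lift ψ φ (((KFlatLib.skyAdj x).homEquiv _ _).symm.injective ?_), kernel.lift_ι _ _ _⟩
    refine ModuleCat.hom_ext (LinearMap.ext fun m => ?_)
    rw [Adjunction.homEquiv_counit, Adjunction.homEquiv_counit]
    show (KFlatLib.skyAdj x).counit.app T (sl (φ ≫ ψ) x m) = (KFlatLib.skyAdj x).counit.app T (sl 0 x m)
    rw [sl_zero, sl_comp_apply, (hker _).2 (hφ ⟨m, rfl⟩)]
    rfl

/-- Sections with support in a closed subset form a coherent submodule. -/
noncomputable def torSub (F : X.Modules) (Z : Set X) : QCoh.SubMod F where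
  mem U :=
    { carrier := {s | ∀ (y : X) (hy : y ∈ U), y ∉ Z → F.presheaf.germ U y hy s = 0}
      add_mem' := fun {a b} ha hb y hy hZ => by rw [map_add, ha y hy hZ, hb y hy hZ, add_zero]
      zero_mem' := fun y hy _ => map_zero _
      smul_mem' := fun a s hs y hy hZ => by rw [QCoh.germ_smul', hs y hy hZ, smul_zero] }
  map_mem := fun {U V} i {s} hs y hy hZ => by
    rw [TopCat.Presheaf.germ_res_apply]; exact hs y (i hy) hZ
  of_locally := fun U s hs y hy hZ => by
    obtain ⟨V, i, hyV, h⟩ := hs y hy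
    exact (TopCat.Presheaf.germ_res_apply (F := F.presheaf) (homOfLE i) y hyV s).symm.trans (h y hyV hZ)

theorem isCoh_torSub {F : X.Modules} (hF : Coh.IsCoh F) {Z : Set X} (hZ : IsClosed Z) :
    Coh.IsCoh (torSub F Z).toModules := by
  refine QCoh.isCoh_of_mono (torSub F Z).ι hF (QCoh.isQCoh_of_sections (fun U hU f s => ?_) (fun U hU f t ht => ?_))
  · obtain ⟨n, t, ht⟩ := QCoh.exists_pow_smul_eq_map hF.1 hU f ((torSub F Z).ι.app _ s)
    let W : X.Opens := U ⊓ ⟨Zᶜ, hZ.isOpen_compl⟩
    haveI := QCoh.noetherian_sections (X := X) ⟨U, hU⟩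
    have hW : IsCompact (W : Set X) := by
      haveI : NoetherianSpace ↥(U : Set X) := AlgebraicGeometry.noetherianSpace_of_isAffineOpen U hU
      have := (NoetherianSpace.isCompact (s := (Subtype.val ⁻¹' (W : Set X) : Set ↥(U : Set X)))).image
        continuous_subtype_val
      rwa [Subtype.image_preimage_coe, Set.inter_eq_right.2 (fun a ha => ha.1)] at this
    let fW := X.presheaf.map (homOfLE (inf_le_left : W ≤ U)).op f
    obtain ⟨m, hm⟩ := QCoh.exists_pow_smul_eq_zero_of_isCompact hF.1 hW fW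
      (F.presheaf.map (homOfLE (inf_le_left : W ≤ U)).op t) (by
        refine TopCat.Presheaf.section_ext (show TopCat.Sheaf AddCommGrpCat.{u} X.toPresheafedSpace.carrier
          from ⟨F.presheaf, F.isSheaf⟩) _ _ _ fun y hy => ?_
        show F.presheaf.germ _ y hy _ = F.presheaf.germ _ y hy _
        rw [map_zero, TopCat.Presheaf.germ_res_apply, TopCat.Presheaf.germ_res_apply]
        have hy' := (QCoh.basicOpen_res_inf (homOfLE (inf_le_left : W ≤ U)) f).le hy
        rw [← TopCat.Presheaf.germ_res_apply (F := F.presheaf) (homOfLE (X.basicOpen_le f)) y hy'.2 t, ht,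
          QCoh.germ_smul', (torSub F Z).ι_app_mem _ s y hy'.2 hy'.1.2, smul_zero])
    have hmem : f ^ m • t ∈ (torSub F Z).mem U := fun y hy hyZ => by
      have hyW : y ∈ W := ⟨hy, hyZ⟩
      rw [← TopCat.Presheaf.germ_res_apply (F := F.presheaf) (homOfLE (inf_le_left : W ≤ U)) y hyW,
        QCoh.map_smul', map_pow, hm, map_zero]
    obtain ⟨t', ht'⟩ := (torSub F Z).exists_app_eq hmem
    refine ⟨m + n, t', (torSub F Z).ι_app_injective _ ?_⟩
    rw [QCoh.map_app_comm, ht', Scheme.Modules.Hom.app_smul, QCoh.map_smul', ht, map_pow, smul_smul, ← pow_add]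
  · obtain ⟨n, hn⟩ := QCoh.exists_pow_smul_eq_zero hF.1 hU f ((torSub F Z).ι.app U t) (by
      rw [← QCoh.map_app_comm, ht, map_zero])
    exact ⟨n, (torSub F Z).ι_app_injective _ (by rw [Scheme.Modules.Hom.app_smul, hn, map_zero])⟩

theorem subsingleton_stalk_torSub {F : X.Modules} {Z : Set X} {y : X} (hy : y ∉ Z) :
    Subsingleton ((torSub F Z).toModules.presheaf.stalk y) := by
  refine subsingleton_of_forall_eq 0 fun m => sl_injective (torSub F Z).ι y ?_
  obtain ⟨U, hyU, s, rfl⟩ := (torSub F Z).toModules.presheaf.exists_germ_eq (x := y) m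
  rw [sl_germ, map_zero]
  exact (torSub F Z).ι_app_mem U s y hyU hy

/-- Where the support lies in `Z`, nothing is cut away. -/
theorem bijective_torSub {F : X.Modules} {Z : Set X} {V : X.Opens} (hV : ∀ y ∈ V, y ∉ Z → Subsingleton (F.presheaf.stalk y))
    {x : X} (hx : x ∈ V) : Function.Bijective (sl (torSub F Z).ι x) := by
  refine ⟨sl_injective _ x, fun m => ?_⟩
  obtain ⟨U, hxU, s, rfl⟩ := F.presheaf.exists_germ_eq (x := x) m
  have hmem : F.presheaf.map (homOfLE (inf_le_left : U ⊓ V ≤ U)).op s ∈ (torSub F Z).mem (U ⊓ V) :=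
    fun y hy hZ => by haveI := hV y hy.2 hZ; exact Subsingleton.elim _ _
  obtain ⟨t, ht⟩ := (torSub F Z).exists_app_eq hmem
  exact ⟨(torSub F Z).toModules.presheaf.germ (U ⊓ V) x (show x ∈ U ⊓ V from ⟨hxU, hx⟩) t, by
    rw [sl_germ, ht, TopCat.Presheaf.germ_res_apply]⟩

end Groth.Agent.CycK
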