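import Groth.Agent.CycK.Fam
import Groth.Agent.KZ.CohClass

/-! Relations in `K₀` of coherent modules of bounded dimension modulo smaller dimension. -/

set_option autoImplicit false
set_option linter.style.haveILetI false
set_option linter.unusedSectionVars false
set_option backward.isDefEq.respectTransparency false
set_option backward.isDefEq.respectTransparency.types false

universe u

open CategoryTheory CategoryTheory.Limits AlgebraicGeometry TopologicalSpace Opposite ZeroObject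

namespace Groth.Agent.CycK

variable {X : Scheme.{u}} [IsLocallyNoetherian X] {δ : X → ℤ} {a b k : ℤ} {ι : Type u}

theorem subsingleton_stalk_of {F : X.Modules} (hF : Cyc.CohLe δ k F) {x : X} (hx : k < δ x) :
    Subsingleton (F.presheaf.stalk x) :=
  not_nontrivial_iff_subsingleton.1 fun h => (hF.2 x h).not_gt hx

theorem cohLe_of_le (h : a ≤ b) {F : X.Modules} (hF : Cyc.CohLe δ a F) : Cyc.CohLe δ b F :=
  ⟨hF.1, fun x hx => (hF.2 x hx).trans h⟩

theorem cohLe_of_mono {F G : X.Modules} (φ : G ⟶ F) [Mono φ] (hF : Cyc.CohLe δ k F) (hG : Coh.IsCoh G) :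
    Cyc.CohLe δ k G :=
  ⟨hG, fun x hx => hF.2 x (nontrivial_of_injective φ hx)⟩

theorem cohLe_of_epi {F G : X.Modules} (φ : F ⟶ G) [Epi φ] (hF : Cyc.CohLe δ k F) (hG : Coh.IsCoh G) :
    Cyc.CohLe δ k G :=
  ⟨hG, fun x hx => hF.2 x (nontrivial_of_surjective φ hx)⟩

theorem cohLe_kernel {F G : X.Modules} (φ : F ⟶ G) (hF : Cyc.CohLe δ k F) (hG : Coh.IsCoh G) :
    Cyc.CohLe δ k (kernel φ) :=
  cohLe_of_mono (kernel.ι φ) hF (QCoh.isCoh_kernel hF.1 hG φ)

theorem cohLe_cokernel {F G : X.Modules} (φ : F ⟶ G) (hF : Coh.IsCoh F) (hG : Cyc.CohLe δ k G) :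
    Cyc.CohLe δ k (cokernel φ) :=
  cohLe_of_epi (cokernel.π φ) hG (QCoh.isCoh_cokernel hF.1 hG.1 φ)

theorem cohLe_zero : Cyc.CohLe δ k (0 : X.Modules) :=
  ⟨KZ.isCoh_zero, fun x hx => absurd (subsingleton_stalk_of_isZero (isZero_zero _) x)
    (not_subsingleton_iff_nontrivial.2 hx)⟩

theorem cohLe_iso {F G : X.Modules} (e : F ≅ G) (hF : Cyc.CohLe δ k F) : Cyc.CohLe δ k G :=
  cohLe_of_mono e.inv hF (SheafHomX.isCoh_of_iso e hF.1)

theorem cohLe_sigma {F : ι → X.Modules} (hl : LFin F) (hF : ∀ i, Cyc.CohLe δ k (F i)) : Cyc.CohLe δ k (∐ F) :=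
  ⟨isCoh_sigma hl fun i => (hF i).1, fun x hx =>
    let ⟨i, hi⟩ := exists_nontrivial_of_sigma hl hx
    (hF i).2 x hi⟩

theorem cohLe_biprod {F G : X.Modules} (hF : Cyc.CohLe δ k F) (hG : Cyc.CohLe δ k G) :
    Cyc.CohLe δ k (F ⊞ G) := by
  have hS : (ShortComplex.mk (biprod.inl : F ⟶ F ⊞ G) biprod.snd biprod.inl_snd).ShortExact :=
    ShortComplex.Splitting.shortExact ⟨biprod.fst, biprod.inr, biprod.inl_fst, biprod.inr_snd, biprod.total⟩
  refine ⟨KZ.isCoh_X₂ hS hF.1 hG.1, fun x hx => ?_⟩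
  by_contra hc
  haveI := subsingleton_stalk_of hF (not_le.1 hc)
  haveI := subsingleton_stalk_of hG (not_le.1 hc)
  refine not_subsingleton_iff_nontrivial.2 hx (subsingleton_of_forall_eq 0 fun m => ?_)
  obtain ⟨n, rfl⟩ := (sl_exact hS.exact x m).1 (Subsingleton.elim _ _)
  rw [Subsingleton.elim n 0, map_zero]

theorem eq_zero_of_small {F : X.Modules} (hb : Cyc.CohLe δ b F) : Cyc.toK0CohQuot δ a b F = 0 :=
  (QuotientAddGroup.eq_zero_iff _).2 (AddSubgroup.subset_closure ⟨F, hb, rfl⟩)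

theorem ses {S : ShortComplex X.Modules} (hS : S.ShortExact) (h₁ : Cyc.CohLe δ a S.X₁) (h₂ : Cyc.CohLe δ a S.X₂)
    (h₃ : Cyc.CohLe δ a S.X₃) :
    Cyc.toK0CohQuot δ a b S.X₂ = Cyc.toK0CohQuot δ a b S.X₁ + Cyc.toK0CohQuot δ a b S.X₃ := by
  simp only [Cyc.toK0CohQuot, KZ.clSub_ses (Cyc.CohLe δ a) hS h₁ h₂ h₃, QuotientAddGroup.mk_add]

theorem iso {F G : X.Modules} (e : F ≅ G) (hF : Cyc.CohLe δ a F) :
    Cyc.toK0CohQuot δ a b F = Cyc.toK0CohQuot δ a b G :=
  congrArg QuotientAddGroup.mk (KZ.clSub_iso (Cyc.CohLe δ a) e hF (cohLe_iso e hF) (isZero_zero _) cohLe_zero)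

theorem biprod_eq {F G : X.Modules} (hF : Cyc.CohLe δ a F) (hG : Cyc.CohLe δ a G) :
    Cyc.toK0CohQuot δ a b (F ⊞ G) = Cyc.toK0CohQuot δ a b F + Cyc.toK0CohQuot δ a b G :=
  ses (S := ShortComplex.mk biprod.inl biprod.snd biprod.inl_snd)
    (ShortComplex.Splitting.shortExact ⟨biprod.fst, biprod.inr, biprod.inl_fst, biprod.inr_snd, biprod.total⟩)
    hF (cohLe_biprod hF hG) hG

/-- A map of families changes the class by cokernels minus kernels. -/
theorem fam_map {A B : ι → X.Modules} (φ : ∀ i, A i ⟶ B i) (hlA : LFin A) (hlB : LFin B)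
    (hA : ∀ i, Cyc.CohLe δ a (A i)) (hB : ∀ i, Cyc.CohLe δ a (B i)) :
    Cyc.toK0CohQuot δ a b (∐ B) - Cyc.toK0CohQuot δ a b (∐ A) =
      Cyc.toK0CohQuot δ a b (∐ fun i => cokernel (φ i)) - Cyc.toK0CohQuot δ a b (∐ fun i => kernel (φ i)) := by
  let I : ι → X.Modules := fun i => Abelian.coimage (φ i)
  let S₁ : ι → ShortComplex X.Modules := fun i =>
    ShortComplex.mk (kernel.ι (φ i)) (Abelian.coimage.π (φ i)) (cokernel.condition _)
  have h0 : ∀ i, Abelian.factorThruCoimage (φ i) ≫ cokernel.π (φ i) = 0 := fun i => by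
    rw [← cancel_epi (Abelian.coimage.π (φ i)), ← Category.assoc, Abelian.coimage.fac, cokernel.condition,
      comp_zero]
  let S₂ : ι → ShortComplex X.Modules := fun i => ShortComplex.mk _ _ (h0 i)
  have hS₁ : ∀ i, (S₁ i).ShortExact := fun i =>
    .mk' (ShortComplex.exact_of_g_is_cokernel _ (cokernelIsCokernel (kernel.ι (φ i)))) inferInstance inferInstance
  have hS₂ : ∀ i, (S₂ i).ShortExact := fun i =>
    .mk' (ShortComplex.exact_of_g_is_cokernel _ (CokernelCofork.IsColimit.ofπ' _ _ fun {T} g hg =>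
      ⟨cokernel.desc (φ i) g (by rw [← Abelian.coimage.fac (φ i), Category.assoc, hg, comp_zero]),
        cokernel.π_desc _ _ _⟩)) inferInstance inferInstance
  have hlK : LFin fun i => kernel (φ i) := hlA.of_imp fun i y => nontrivial_of_injective (kernel.ι (φ i))
  have hlI : LFin I := hlA.of_imp fun i y => nontrivial_of_surjective (Abelian.coimage.π (φ i))
  have hlC : LFin fun i => cokernel (φ i) := hlB.of_imp fun i y => nontrivial_of_surjective (cokernel.π (φ i))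
  have hK := fun i => cohLe_kernel (φ i) (hA i) (hB i).1
  have hI : ∀ i, Cyc.CohLe δ a (I i) := fun i => cohLe_cokernel (kernel.ι (φ i)) (hK i).1 (hA i)
  have hC := fun i => cohLe_cokernel (φ i) (hA i).1 (hB i)
  have e₁ : Cyc.toK0CohQuot δ a b (∐ A) = _ := ses (b := b) (shortExact_sigma S₁ hS₁ hlK)
    (cohLe_sigma hlK hK) (cohLe_sigma hlA hA) (cohLe_sigma hlI hI)
  have e₂ : Cyc.toK0CohQuot δ a b (∐ B) = _ := ses (b := b) (shortExact_sigma S₂ hS₂ hlI)
    (cohLe_sigma hlI hI) (cohLe_sigma hlB hB) (cohLe_sigma hlC hC)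
  rw [e₁, e₂]
  show _ + Cyc.toK0CohQuot δ a b (∐ fun i => cokernel (φ i)) - (Cyc.toK0CohQuot δ a b (∐ fun i => kernel (φ i)) + _) = _
  abel

/-- Maps bijective in dimension above `b` preserve classes. -/
theorem fam_crit {A B : ι → X.Modules} (φ : ∀ i, A i ⟶ B i) (hlA : LFin A) (hlB : LFin B)
    (hA : ∀ i, Cyc.CohLe δ a (A i)) (hB : ∀ i, Cyc.CohLe δ a (B i))
    (h : ∀ i (x : X), b < δ x → Function.Bijective (sl (φ i) x)) :
    Cyc.toK0CohQuot δ a b (∐ A) = Cyc.toK0CohQuot δ a b (∐ B) := by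
  have e := fam_map (b := b) φ hlA hlB hA hB
  have hlK : LFin fun i => kernel (φ i) := hlA.of_imp fun i y => nontrivial_of_injective (kernel.ι (φ i))
  have hlC : LFin fun i => cokernel (φ i) := hlB.of_imp fun i y => nontrivial_of_surjective (cokernel.π (φ i))
  rw [eq_zero_of_small (cohLe_sigma hlK fun i => ⟨(cohLe_kernel (φ i) (hA i) (hB i).1).1, fun x hx =>
      not_lt.1 fun hc => not_subsingleton_iff_nontrivial.2 hx (subsingleton_kernel _ (h i x hc).1)⟩),
    eq_zero_of_small (cohLe_sigma hlC fun i => ⟨(cohLe_cokernel (φ i) (hA i).1 (hB i)).1, fun x hx =>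
      not_lt.1 fun hc => not_subsingleton_iff_nontrivial.2 hx (subsingleton_cokernel _ (h i x hc).2)⟩),
    sub_self, sub_eq_zero] at e
  exact e.symm

theorem crit {A B : X.Modules} (φ : A ⟶ B) (hA : Cyc.CohLe δ a A) (hB : Cyc.CohLe δ a B)
    (h : ∀ x : X, b < δ x → Function.Bijective (sl φ x)) :
    Cyc.toK0CohQuot δ a b A = Cyc.toK0CohQuot δ a b B := by
  have h0 : (ShortComplex.mk (kernel.ι φ) (Abelian.coimage.π φ) (cokernel.condition _)).ShortExact :=
    .mk' (ShortComplex.exact_of_g_is_cokernel _ (cokernelIsCokernel (kernel.ι φ))) inferInstance inferInstance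
  have h1 : Abelian.factorThruCoimage φ ≫ cokernel.π φ = 0 := by
    rw [← cancel_epi (Abelian.coimage.π φ), ← Category.assoc, Abelian.coimage.fac, cokernel.condition, comp_zero]
  have h2 : (ShortComplex.mk _ _ h1).ShortExact :=
    .mk' (ShortComplex.exact_of_g_is_cokernel _ (CokernelCofork.IsColimit.ofπ' _ _ fun {T} g hg =>
      ⟨cokernel.desc φ g (by rw [← Abelian.coimage.fac φ, Category.assoc, hg, comp_zero]),
        cokernel.π_desc _ _ _⟩)) inferInstance inferInstance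
  have hK := cohLe_kernel φ hA hB.1
  have hI : Cyc.CohLe δ a (Abelian.coimage φ) := cohLe_cokernel (kernel.ι φ) hK.1 hA
  have hC := cohLe_cokernel φ hA.1 hB
  rw [show Cyc.toK0CohQuot δ a b A = _ from ses h0 hK hA hI, show Cyc.toK0CohQuot δ a b B = _ from ses h2 hI hB hC]
  show Cyc.toK0CohQuot δ a b (kernel φ) + Cyc.toK0CohQuot δ a b (Abelian.coimage φ) =
    Cyc.toK0CohQuot δ a b (Abelian.coimage φ) + Cyc.toK0CohQuot δ a b (cokernel φ)
  rw [eq_zero_of_small ⟨hK.1, fun x hx => not_lt.1 fun hc => not_subsingleton_iff_nontrivial.2 hx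
      (subsingleton_kernel _ (h x hc).1)⟩,
    eq_zero_of_small ⟨hC.1, fun x hx => not_lt.1 fun hc => not_subsingleton_iff_nontrivial.2 hx
      (subsingleton_cokernel _ (h x hc).2)⟩, zero_add, add_zero]

theorem length_lt_top (hd : Cyc.IsDimFun X δ) {F : X.Modules} (hF : Cyc.CohLe δ k F) {x : X} (hx : k ≤ δ x) :
    Module.length (X.presheaf.stalk x) (F.presheaf.stalk x) < ⊤ :=
  CycLib.length_stalk_lt_top F hF.1 fun y hy hyx => CycLib.eq_of_delta_le hd hyx ((hF.2 y hy).trans hx)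

/-- A homomorphism out of the quotient. -/
theorem exists_hom {G : Type*} [AddCommGroup G] (f : X.Modules → G)
    (hadd : ∀ S : ShortComplex X.Modules, S.ShortExact → Cyc.CohLe δ a S.X₁ → Cyc.CohLe δ a S.X₂ →
      Cyc.CohLe δ a S.X₃ → f S.X₂ = f S.X₁ + f S.X₃)
    (hsmall : ∀ F, Cyc.CohLe δ a F → Cyc.CohLe δ b F → f F = 0) :
    ∃ ψ : Cyc.K0CohQuot δ a b →+ G, ∀ F, Cyc.CohLe δ a F → ψ (Cyc.toK0CohQuot δ a b F) = f F := by
  let g : KZero.K0sub (Cyc.CohLe δ a) →+ G := QuotientAddGroup.lift _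
    (FreeAbelianGroup.lift fun M : {M : X.Modules // Cyc.CohLe δ a M} => f M.1) (by
      rw [KZero.relSub, AddSubgroup.closure_le]
      rintro x ⟨S, h₁, h₂, h₃, hS, rfl⟩
      simp [hadd S hS h₁ h₂ h₃])
  have hg : ∀ F (h : Cyc.CohLe δ a F), g (KZero.clSub (Cyc.CohLe δ a) F) = f F := fun F h => by
    rw [KZ.clSub_of_prop _ h]
    exact FreeAbelianGroup.lift_apply_of (fun M : {M : X.Modules // Cyc.CohLe δ a M} => f M.1) ⟨F, h⟩
  refine ⟨QuotientAddGroup.lift _ g ?_, fun F h => hg F h⟩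
  rw [AddSubgroup.closure_le]
  rintro x ⟨F, hF, rfl⟩
  by_cases h : Cyc.CohLe δ a F
  · exact (hg F h).trans (hsmall F h hF)
  · have : KZero.clSub (Cyc.CohLe δ a) F = 0 := by rw [KZero.clSub, dif_neg h]
    rw [this]; exact g.map_zero

end Groth.Agent.CycK
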