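import Groth.Agent.CycK.PtSub
import Groth.Agent.CycK.Point
import Groth.Agent.H23.C1Comm

/-! Correspondences at a point and filtrations by length. -/

set_option autoImplicit false
set_option linter.style.haveILetI false
set_option linter.unusedSectionVars false
set_option backward.isDefEq.respectTransparency false
set_option backward.isDefEq.respectTransparency.types false

universe u

open CategoryTheory CategoryTheory.Limits AlgebraicGeometry TopologicalSpace Opposite

namespace Groth.Agent.CycK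

variable {X : Scheme.{u}} [IsLocallyNoetherian X] {δ : X → ℤ} {k : ℤ}

theorem sl_add {M N : X.Modules} (φ ψ : M ⟶ N) (x : X) : sl (φ + ψ) x = sl φ x + sl ψ x := by
  unfold sl; rw [Functor.map_add]; rfl

theorem biprod_total_sl {G H : X.Modules} (x : X) (m : (H ⊞ G).presheaf.stalk x) :
    sl (biprod.inl : H ⟶ H ⊞ G) x (sl biprod.fst x m) + sl (biprod.inr : G ⟶ H ⊞ G) x (sl biprod.snd x m) = m := by
  rw [← sl_comp_apply, ← sl_comp_apply, ← LinearMap.add_apply, ← sl_add, biprod.total, sl_id]; rfl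

/-- A linear map of stalks at the generic point is realised by a coherent correspondence. -/
theorem exists_graph (hd : Cyc.IsDimFun X δ) {H G : X.Modules} (hH : Cyc.CohLe δ k H) (hG : Cyc.CohLe δ k G)
    {x : X} (hx : k ≤ δ x) (hsH : ∀ y, Nontrivial (H.presheaf.stalk y) → x ⤳ y)
    (hsG : ∀ y, Nontrivial (G.presheaf.stalk y) → x ⤳ y)
    (φ : H.presheaf.stalk x →ₗ[X.presheaf.stalk x] G.presheaf.stalk x) :
    ∃ (K : X.Modules) (p : K ⟶ H) (q : K ⟶ G), Cyc.CohLe δ k K ∧
      (∀ y, Nontrivial (K.presheaf.stalk y) → x ⤳ y) ∧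
      (∀ y z, sl p y z = 0 → sl q y z = 0 → z = 0) ∧
      Function.Bijective (sl p x) ∧ ∀ z, sl q x z = φ (sl p x z) := by
  have hB := cohLe_biprod hH hG
  let N : Submodule (X.presheaf.stalk x) ((H ⊞ G).presheaf.stalk x) :=
    LinearMap.ker (sl (biprod.snd : H ⊞ G ⟶ G) x - φ ∘ₗ sl (biprod.fst : H ⊞ G ⟶ H) x)
  have hfin : Module.length (X.presheaf.stalk x) ((H ⊞ G).presheaf.stalk x ⧸ N) ≠ ⊤ :=
    ((Module.length_le_of_surjective N.mkQ (Submodule.mkQ_surjective N)).trans_lt (length_lt_top hd hB hx)).ne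
  obtain ⟨K, ι, hι, hK, hr, -, -⟩ := exists_ptSub hB.1 x N (tors_of_finiteLength hfin)
  have hj : ∀ y z, sl (ι ≫ biprod.fst) y z = 0 → sl (ι ≫ biprod.snd) y z = 0 → z = 0 := fun y z h1 h2 => by
    refine sl_injective ι y (a₂ := 0) ?_
    rw [map_zero, ← biprod_total_sl y (sl ι y z), ← sl_comp_apply ι, h1, map_zero, zero_add,
      ← sl_comp_apply ι, h2, map_zero]
  have hrel : ∀ z, sl (ι ≫ biprod.snd) x z = φ (sl (ι ≫ biprod.fst) x z) := fun z => by
    have : sl ι x z ∈ N := hr.le ⟨z, rfl⟩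
    rw [LinearMap.mem_ker, LinearMap.sub_apply, sub_eq_zero] at this
    rw [sl_comp_apply, sl_comp_apply]
    exact this
  refine ⟨K, ι ≫ biprod.fst, ι ≫ biprod.snd, cohLe_of_mono ι hB hK, fun y hy => ?_, hj,
    ⟨(injective_iff_map_eq_zero _).2 fun z hz => hj x z hz (by rw [hrel, hz, map_zero]), fun h => ?_⟩, hrel⟩
  · by_contra hc
    haveI : Subsingleton (H.presheaf.stalk y) := not_nontrivial_iff_subsingleton.1 fun hn => hc (hsH y hn)
    haveI : Subsingleton (G.presheaf.stalk y) := not_nontrivial_iff_subsingleton.1 fun hn => hc (hsG y hn)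
    exact not_subsingleton_iff_nontrivial.2 hy
      (subsingleton_of_forall_eq 0 fun z => hj y z (Subsingleton.elim _ _) (Subsingleton.elim _ _))
  · let m := sl (biprod.inl : H ⟶ H ⊞ G) x h + sl (biprod.inr : G ⟶ H ⊞ G) x (φ h)
    have h1 : sl (biprod.fst : H ⊞ G ⟶ H) x m = h := by
      simp only [m, map_add, ← sl_comp_apply, biprod.inl_fst, biprod.inr_fst, sl_id, sl_zero]
      simp
    have h2 : sl (biprod.snd : H ⊞ G ⟶ G) x m = φ h := by
      simp only [m, map_add, ← sl_comp_apply, biprod.inl_snd, biprod.inr_snd, sl_id, sl_zero]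
      simp
    obtain ⟨z, hz⟩ := hr.ge (show m ∈ N from by
      rw [LinearMap.mem_ker, LinearMap.sub_apply, LinearMap.comp_apply, h1, h2, sub_self])
    exact ⟨z, by rw [sl_comp_apply, hz, h1]⟩

theorem exists_chain {R M : Type u} [CommRing R] [AddCommGroup M] [Module R M] {n : ℕ}
    (hn : Module.length R M = n) :
    ∃ N : ℕ → Submodule R M, N 0 = ⊤ ∧ (∀ j, N (j + 1) ≤ N j) ∧
      ∀ j, Module.length R (N j) = ((n - j : ℕ) : ℕ∞) := by
  have hfl : IsFiniteLength R M := Module.length_ne_top_iff.mp (by rw [hn]; exact ENat.natCast_ne_top n)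
  haveI := (isFiniteLength_iff_isNoetherian_isArtinian.mp hfl).1
  have hstep : ∀ P : Submodule R M, ∃ Q ≤ P, P ≠ ⊥ → Q ⋖ P := fun P => by
    rcases eq_or_ne P ⊥ with rfl | hP
    · exact ⟨⊥, le_rfl, fun h => absurd rfl h⟩
    · obtain ⟨Q, hQ, hmax⟩ := set_has_maximal_iff_noetherian.2 ‹_› {Q : Submodule R M | Q < P}
        ⟨⊥, bot_lt_iff_ne_bot.2 hP⟩
      exact ⟨Q, (show Q < P from hQ).le, fun _ => ⟨hQ, fun {C} h1 h2 => hmax C h2 h1⟩⟩
  choose nxt hle hcov using hstep
  refine ⟨fun j => nxt^[j] ⊤, rfl, fun j => by simp only [Function.iterate_succ_apply']; exact hle _, fun j => ?_⟩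
  induction j with
  | zero => show Module.length R (⊤ : Submodule R M) = _; rw [Submodule.topEquiv.length_eq, hn, Nat.sub_zero]
  | succ j ih =>
    show Module.length R ↥(nxt^[j + 1] ⊤) = _
    replace ih : Module.length R ↥(nxt^[j] ⊤) = _ := ih
    rw [show nxt^[j + 1] ⊤ = nxt (nxt^[j] ⊤) from Function.iterate_succ_apply' nxt j ⊤]
    revert ih
    generalize nxt^[j] ⊤ = P
    intro ih
    rcases eq_or_ne P ⊥ with hP | hP
    · rw [hP] at ih ⊢
      rw [le_bot_iff.1 (hle ⊥), Module.length_eq_zero_iff.2 inferInstance]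
      rw [Module.length_eq_zero_iff.2 inferInstance] at ih
      have : n - j = 0 := by exact_mod_cast ih.symm
      rw [show n - (j + 1) = 0 by omega]
      rfl
    · have hs : IsSimpleModule R (P ⧸ (nxt P).submoduleOf P) :=
        (covBy_iff_quot_is_simple (hle P)).1 (hcov P hP)
      have h := Module.length_eq_add_of_exact ((nxt P).submoduleOf P).subtype ((nxt P).submoduleOf P).mkQ
        (Submodule.injective_subtype _) (Submodule.mkQ_surjective _) (LinearMap.exact_subtype_mkQ _)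
      rw [ih, Module.length_eq_one_iff.2 hs, (Submodule.submoduleOfEquivOfLe (hle P)).length_eq] at h
      have hne : Module.length R (nxt P) ≠ ⊤ := fun e => by simp [e] at h
      lift Module.length R (nxt P) to ℕ using hne with a ha
      have : n - j = a + 1 := by exact_mod_cast h
      rw [show n - (j + 1) = a by omega]

/-- Near a point maximal in a closed set, the set lies in its closure. -/
theorem exists_nhd_maximal {C : Set X} (hC : IsClosed C) {x : X} (hm : ∀ w ∈ C, w ⤳ x → w = x) :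
    ∃ V : X.Opens, x ∈ V ∧ ∀ y ∈ V, y ∈ C → x ⤳ y := by
  obtain ⟨U, hU, hxU, -⟩ := exists_isAffineOpen_mem_and_subset (x := x) (U := (⊤ : X.Opens)) trivial
  let S := {w : X | w ∈ C ∧ (∀ v ∈ C, v ⤳ w → v = w) ∧ w ∈ (U : Set X)}
  have hS : S.Finite := H23.C1Comm.finite_maximal_inter hC hU.isCompact
  have hcl : IsClosed (⋃ w ∈ S \ {x}, closure ({w} : Set X)) :=
    (hS.subset Set.sdiff_subset).isClosed_biUnion fun w _ => isClosed_closure
  refine ⟨U ⊓ ⟨_, hcl.isOpen_compl⟩, ⟨hxU, fun hmem => ?_⟩, fun y hy hyC => ?_⟩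
  · obtain ⟨w, hw, hwx⟩ := Set.mem_iUnion₂.1 hmem
    exact hw.2 (hm w hw.1.1 (specializes_iff_mem_closure.2 hwx))
  haveI : QuasiSober ↥C := hC.isClosedEmbedding_subtypeVal.quasiSober
  obtain ⟨Z, hZ, hyZ⟩ := exists_mem_irreducibleComponents_subset_of_isIrreducible _
    (isIrreducible_singleton (x := (⟨y, hyC⟩ : ↥C)))
  obtain ⟨η, hη⟩ := QuasiSober.sober hZ.1 (isClosed_of_mem_irreducibleComponents Z hZ)
  have hηy : (η : X) ⤳ y := (hη.specializes (hyZ rfl)).map continuous_subtype_val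
  have hmax : ∀ v ∈ C, v ⤳ (η : X) → v = η := fun v hv hvη => by
    have hsp : (⟨v, hv⟩ : ↥C) ⤳ η := (subtype_specializes_iff _ _).2 hvη
    have hsub : Z ⊆ closure {(⟨v, hv⟩ : ↥C)} := by
      rw [← hη.def]
      exact closure_minimal (Set.singleton_subset_iff.2 (specializes_iff_mem_closure.1 hsp)) isClosed_closure
    have hηv : η ⤳ (⟨v, hv⟩ : ↥C) := hη.specializes (hZ.2 isIrreducible_singleton.closure hsub (subset_closure rfl))
    exact (hvη.antisymm (hηv.map continuous_subtype_val)).eq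
  by_contra hxy
  refine hy.2 (Set.mem_iUnion₂.2 ⟨η, ⟨⟨η.2, hmax, hηy.mem_open U.2 hy.1⟩, ?_⟩, specializes_iff_mem_closure.1 hηy⟩)
  intro e
  exact hxy ((Set.mem_singleton_iff.1 e) ▸ hηy)

/-- The data used to compare a coherent module with a cycle at one generic point. -/
theorem exists_filtration (hd : Cyc.IsDimFun X δ) {F : X.Modules} (hF : Cyc.CohLe δ k F) {x : X} (hx : δ x = k)
    {n : ℕ} (hn : Module.length (X.presheaf.stalk x) (F.presheaf.stalk x) = n) :
    ∃ (G : ℕ → X.Modules) (f : ∀ j, G (j + 1) ⟶ G j) (π : G 0 ⟶ F),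
      (∀ j, Mono (f j)) ∧ (∀ j, Cyc.CohLe δ k (G j)) ∧
      (∀ j y, Nontrivial ((G j).presheaf.stalk y) → x ⤳ y) ∧
      (∀ j, n < j → IsZero (G j)) ∧
      (∀ j, Module.length (X.presheaf.stalk x) ((G j).presheaf.stalk x) = ((n - j : ℕ) : ℕ∞)) ∧
      Function.Bijective (sl π x) := by
  let F' := (torSub F (closure {x})).toModules
  have hF' : Cyc.CohLe δ k F' := cohLe_of_mono (torSub F _).ι hF (isCoh_torSub hF.1 isClosed_closure)
  have hs' : ∀ y, Nontrivial (F'.presheaf.stalk y) → x ⤳ y := fun y hy => specializes_iff_mem_closure.2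
    (by_contra fun hc => not_subsingleton_iff_nontrivial.2 hy (subsingleton_stalk_torSub hc))
  obtain ⟨V, hxV, hV⟩ := exists_nhd_maximal (CycLib.isClosed_nontrivial F hF.1) (x := x)
    fun w hw hwx => CycLib.eq_of_delta_le hd hwx ((hF.2 w hw).trans hx.ge)
  have hb : Function.Bijective (sl (torSub F (closure {x})).ι x) := bijective_torSub
    (fun y hy hyc => not_nontrivial_iff_subsingleton.1 fun hn => hyc (specializes_iff_mem_closure.1 (hV y hy hn))) hxV
  obtain ⟨N, hN0, hNle, hNl⟩ := exists_chain (R := X.presheaf.stalk x) (M := F'.presheaf.stalk x)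
    ((LinearEquiv.ofBijective _ hb).length_eq.trans hn)
  have ht : ∀ j, Tors (R := X.presheaf.stalk x) (F'.presheaf.stalk x ⧸ N j) := fun j =>
    tors_of_finiteLength ((Module.length_le_of_surjective (N j).mkQ (Submodule.mkQ_surjective _)).trans_lt
      (length_lt_top hd hF' hx.ge)).ne
  choose G ι hι hG hr hb' hlift using fun j => exists_ptSub hF'.1 x (N j) (ht j)
  choose st hst using fun j => hlift j (G (j + 1)) (ι (j + 1)) ((hr (j + 1)).le.trans (hNle j))
  let H : ℕ → X.Modules := fun j => if j ≤ n then G j else ⊥_ X.Modules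
  have hz : ∀ j, n < j → IsZero (H j) := fun j hj => by
    simp only [H, if_neg (not_le.2 hj)]
    exact HasZeroObject.zeroIsoInitial.symm.isZero_iff.2 (isZero_zero _)
  have hH : ∀ j, ∃ e : H j ⟶ G j, Mono e ∧ (j ≤ n → IsIso e) := fun j => by
    by_cases h : j ≤ n
    · exact ⟨eqToHom (if_pos h), inferInstance, fun _ => inferInstance⟩
    · exact ⟨0, ⟨fun _ _ _ => (hz j (not_le.1 h)).eq_of_tgt _ _⟩, fun h' => absurd h' h⟩
  choose e he hiso using hH
  have hstep : ∀ j, ∃ f : H (j + 1) ⟶ H j, Mono f := fun j => by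
    by_cases h : j + 1 ≤ n
    · haveI := hiso j (by omega)
      haveI : Mono (st j) := mono_of_mono_fac (hst j)
      exact ⟨e (j + 1) ≫ st j ≫ inv (e j), inferInstance⟩
    · exact ⟨0, ⟨fun _ _ _ => (hz _ (not_le.1 h)).eq_of_tgt _ _⟩⟩
  choose f hf using hstep
  have hcoh : ∀ j, Cyc.CohLe δ k (H j) := fun j => by
    by_cases h : j ≤ n
    · simp only [H, if_pos h]
      haveI := hι j
      exact cohLe_of_mono (ι j) hF' (hG j)
    · exact cohLe_iso ((isZero_zero _).iso (hz j (not_le.1 h))) cohLe_zero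
  refine ⟨H, f, e 0 ≫ ι 0 ≫ (torSub F _).ι, hf, hcoh, fun j y hy => ?_, hz, fun j => ?_, ?_⟩
  · haveI := he j; haveI := hι j
    exact hs' y (nontrivial_of_injective (e j ≫ ι j) hy)
  · by_cases h : j ≤ n
    · haveI := hiso j h; haveI := hι j
      have e1 : ((H j).presheaf.stalk x) ≃ₗ[X.presheaf.stalk x] N j :=
        (LinearEquiv.ofInjective (sl (e j ≫ ι j) x) (sl_injective _ x)) ≪≫ₗ LinearEquiv.ofEq _ _ (by
          rw [sl_comp, LinearMap.range_comp, LinearMap.range_eq_top.2 (sl_surjective (e j) x), Submodule.map_top, hr])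
      rw [e1.length_eq, hNl]
    · haveI := subsingleton_stalk_of_isZero (hz j (not_le.1 h)) x
      rw [Module.length_eq_zero_iff.2 ‹_›, show n - j = 0 by omega]
      rfl
  · rw [sl_comp, sl_comp]
    haveI := hiso 0 (Nat.zero_le n); haveI := hι 0
    refine (hb.comp ⟨sl_injective (ι 0) x, ?_⟩).comp ⟨sl_injective (e 0) x, sl_surjective (e 0) x⟩
    rw [← LinearMap.range_eq_top, hr, hN0]

end Groth.Agent.CycK
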