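import Groth.Agent.CycK.GraphFam
import Groth.Agent.AmpleVan.Kill

/-! `[F ⊗ L] - [F]` is the first Chern class. -/

set_option autoImplicit false
set_option linter.style.haveILetI false
set_option linter.unusedSectionVars false
set_option backward.isDefEq.respectTransparency false
set_option backward.isDefEq.respectTransparency.types false

universe u

open CategoryTheory CategoryTheory.Limits AlgebraicGeometry TopologicalSpace Opposite

namespace Groth.Agent.CycK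

variable {X : Scheme.{u}} [IsLocallyNoetherian X] {δ : X → ℤ} {k a b : ℤ} {L : X.Modules}

theorem cohLe_tensor (hL : PicF.IsInvertible L) {F : X.Modules} (hF : Cyc.CohLe δ a F) :
    Cyc.CohLe δ a (CohB1.tensorMod F L) :=
  ⟨AmpleVan.isCoh_tensor hF.1 (AmpleVan.isCoh_invertible hL), fun x hx => hF.2 x ((nontrivial_tensor_iff hL x).1 hx)⟩

theorem sheafFun_tensor (hL : PicF.IsInvertible L) (F : X.Modules) :
    Cyc.sheafFun δ k (CohB1.tensorMod F L) = Cyc.sheafFun δ k F := by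
  funext x; simp only [Cyc.sheafFun, length_tensor hL]

theorem tensor_congr (hd : Cyc.IsDimFun X δ) (hL : PicF.IsInvertible L) {F : X.Modules} (hF : Cyc.CohLe δ k F)
    (hka : k ≤ a) (hkb : k - 1 ≤ b) :
    Cyc.toK0CohQuot δ a b (CohB1.tensorMod F L) = Cyc.toK0CohQuot δ a b F :=
  class_congr hd (cohLe_tensor hL hF) hF hka hkb (sheafFun_tensor hL F)

/-- The operator `[F ⊗ L] - [F]`. -/
theorem exists_twist_hom (hd : Cyc.IsDimFun X δ) (hL : PicF.IsInvertible L) :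
    ∃ Φ : Cyc.K0CohQuot δ (k + 1) k →+ Cyc.K0CohQuot δ (k + 1) (k - 1), ∀ F, Cyc.CohLe δ (k + 1) F →
      Φ (Cyc.toK0CohQuot δ (k + 1) k F) =
        Cyc.toK0CohQuot δ (k + 1) (k - 1) (CohB1.tensorMod F L) - Cyc.toK0CohQuot δ (k + 1) (k - 1) F :=
  exists_hom (δ := δ) (a := k + 1) (b := k)
    (fun F => Cyc.toK0CohQuot δ (k + 1) (k - 1) (CohB1.tensorMod F L) - Cyc.toK0CohQuot δ (k + 1) (k - 1) F)
    (fun S hS h₁ h₂ h₃ => by
      haveI := AmpleVan.isEquivalence_tw hL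
      have hT : (S.map (AmpleVan.tw L)).ShortExact := hS.map_of_exact _
      have e₁ := ses (b := k - 1) hT (cohLe_tensor hL h₁) (cohLe_tensor hL h₂) (cohLe_tensor hL h₃)
      have e₂ := ses (b := k - 1) hS h₁ h₂ h₃
      change Cyc.toK0CohQuot δ (k + 1) (k - 1) (CohB1.tensorMod S.X₂ L) =
        Cyc.toK0CohQuot δ (k + 1) (k - 1) (CohB1.tensorMod S.X₁ L) +
          Cyc.toK0CohQuot δ (k + 1) (k - 1) (CohB1.tensorMod S.X₃ L) at e₁
      rw [e₁, e₂]; abel)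
    (fun F _ hF => sub_eq_zero.2 (tensor_congr hd hL hF (by omega) (by omega)))

/-- **`[F ⊗ L] - [F]` is `c₁(L) ∩ [F]`.** -/
theorem twist_eq (hd : Cyc.IsDimFun X δ) (hL : PicF.IsInvertible L) {F : X.Modules} (hF : Cyc.CohLe δ (k + 1) F)
    (s : (ξ : X) → Cyc.secFibre L ξ) (hs : ∀ ξ, s ξ ≠ 0) {γ : X → ℤ} (hl : LF γ) (hγk : ∀ x, γ x ≠ 0 → δ x = k)
    (hγ : ∀ x, δ x = k → γ x = Cyc.c1CapFun δ L (Cyc.sheafFun δ (k + 1) F) s x) :
    Cyc.toK0CohQuot δ (k + 1) (k - 1) (CohB1.tensorMod F L) - Cyc.toK0CohQuot δ (k + 1) (k - 1) F =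
      Cyc.toK0CohQuot δ (k + 1) (k - 1) (Cyc.cycleSheafPos γ) -
        Cyc.toK0CohQuot δ (k + 1) (k - 1) (Cyc.cycleSheafNeg γ) := by
  classical
  obtain ⟨Φ, hΦ⟩ := exists_twist_hom (k := k) hd hL
  set α := Cyc.sheafFun δ (k + 1) F
  have hlα : LF α := lf_sheafFun hd hF
  have hnn : ∀ x, 0 ≤ α x := fun x => by simp only [α, Cyc.sheafFun]; split_ifs <;> simp
  have hαk : ∀ x, α x ≠ 0 → δ x = k + 1 := fun x hx => by_contra fun hne => hx (by simp [α, Cyc.sheafFun, hne])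
  have hP : Cyc.CohLe δ (k + 1) (Cyc.cycleSheafPos α) := cohLe_pos hd hlα fun ζ hζ => (hαk ζ hζ.ne').le
  rw [← hΦ F hF, class_eq (a := k + 1) (b := k) hd hF le_rfl (by omega), hΦ _ hP]
  let ξ : (Σ ζ : {ζ : X // 0 < α ζ}, Fin (α ζ.1).toNat) → X := fun i => i.1.1
  let P := fun i => Cyc.closureStructureSheaf (ξ i)
  haveI := AmpleVan.isEquivalence_tw hL
  have hlP : LFin P := lfin_pos hlα
  have e : CohB1.tensorMod (Cyc.cycleSheafPos α) L ≅ ∐ fun i => CohB1.tensorMod (P i) L :=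
    PreservesCoproduct.iso (AmpleVan.tw L) P
  rw [iso e (cohLe_tensor hL hP)]
  refine graph_family hd ξ ?_ (fun i => hαk _ i.1.2.ne') hL (fun i => s (ξ i)) (fun i => hs _) hl hγk fun y hy => ?_
  · intro x
    obtain ⟨U, hU, hx, hfin⟩ := hlα x
    refine ⟨U, hU, hx, ((((hfin.preimage Subtype.val_injective.injOn).subset fun ζ (hζ : ζ.1 ∈ U) => ⟨hζ, ζ.2.ne'⟩) :
      {ζ : {ζ : X // 0 < α ζ} | ζ.1 ∈ U}.Finite).biUnion fun ζ _ => Set.finite_range (Sigma.mk ζ)).subset ?_⟩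
    rintro i ⟨z, hz, hzU⟩
    exact Set.mem_biUnion (x := i.1) ((specializes_iff_mem_closure.2 hz).mem_open hU hzU) ⟨i.2, rfl⟩
  · rw [hγ y hy]
    obtain ⟨U, hU, hyU, hfin⟩ := hlα y
    let f := fun ζ => Cyc.secDivFun δ L ζ (s ζ) y
    have hne : ∀ ζ, f ζ ≠ 0 → ζ ∈ U := fun ζ h => by
      by_contra hc
      exact h (dif_neg fun hh => hc (hh.1.mem_open hU hyU))
    rw [Cyc.c1CapFun, finsum_eq_sum_of_support_subset _ (s := hfin.toFinset) fun ζ hζ => by
      rw [Function.mem_support, mul_ne_zero_iff] at hζ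
      exact hfin.mem_toFinset.2 ⟨hne ζ hζ.2, hζ.1⟩]
    let S : Finset (Σ ζ : {ζ : X // 0 < α ζ}, Fin (α ζ.1).toNat) :=
      (hfin.toFinset.subtype fun ζ => 0 < α ζ).sigma fun _ => Finset.univ
    show _ = ∑ᶠ i, f (ξ i)
    rw [finsum_eq_sum_of_support_subset _ (s := S) fun i hi => by
      simp only [S, Finset.coe_sigma, Set.mem_sigma_iff, Finset.coe_univ, Set.mem_univ, and_true]
      exact Finset.mem_subtype.2 (hfin.mem_toFinset.2 ⟨hne _ hi, i.1.2.ne'⟩)]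
    rw [Finset.sum_sigma]
    simp only [ξ, Finset.sum_const, Finset.card_univ, Fintype.card_fin, nsmul_eq_mul]
    rw [Finset.sum_subtype_eq_sum_filter (fun ζ => ((α ζ).toNat : ℤ) * f ζ), Finset.filter_true_of_mem fun ζ hζ =>
      lt_of_le_of_ne (hnn ζ) (hfin.mem_toFinset.1 hζ).2.symm]
    exact Finset.sum_congr rfl fun ζ _ => by rw [Int.toNat_of_nonneg (hnn ζ)]

end Groth.Agent.CycK
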